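import Cfsg.Agent.H5.Re2
import Cfsg.Agent.H5.InvD
import Cfsg.Agent.H4.Dick3
import Cfsg.Agent.H1.Basic

/-! The small Ree groups as split `BN`-pairs of rank one. -/

set_option autoImplicit false

namespace Cfsg.Agent.H5

open Cfsg.Lie StG StN RS StN.Tw Ree Subgroup
open scoped MatrixGroups

section sl
variable {F : Type*} [Field F] {G : Type*} [Group G]

/-- diagonal matrices -/
def slD (c : Fˣ) : SL(2, F) := slU (c : F) * slL (-(c : F)⁻¹) * slU (c : F) * (slU (-1) * slL 1 * slU (-1))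

theorem slD_neg : slD (-1 : Fˣ) = -1 := by
  refine sl_ext ?_ ?_ ?_ ?_ <;> simp [slD, Matrix.mul_apply, Fin.sum_univ_two]

theorem sl_central (ψ : SL(2, F) →* G) {B : Subgroup G} (hU : ∀ t, ψ (slU t) ∈ B) (hL : ∀ t, ψ (slL t) ∈ B → t = 0)
    {g : SL(2, F)} (h : ∀ x, ψ (x * g * x⁻¹) ∈ B) : g ∈ center SL(2, F) := by
  have key : ∀ g : SL(2, F), ψ g ∈ B → g 1 0 = 0 := fun g hg => by
    by_contra hc
    have hd := sl_det g
    have : g = slU ((g 0 0 - 1) / g 1 0) * slL (g 1 0) * slU ((g 1 1 - 1) / g 1 0) := by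
      refine sl_ext ?_ ?_ ?_ ?_ <;> simp [Matrix.mul_apply, Fin.sum_univ_two] <;> field_simp
      · ring
      · linear_combination -hd
      · ring
    rw [this, map_mul, map_mul, mul_mem_cancel_right (hU _), mul_mem_cancel_left (hU _)] at hg
    exact hc (hL _ hg)
  have h1 := key _ (h 1)
  have h2 := key _ (h slW)
  have h3 := key _ (h (slL 1))
  have hd := sl_det g
  simp [Matrix.mul_apply, Fin.sum_univ_two, Matrix.SpecialLinearGroup.coe_inv, Matrix.adjugate_fin_two, Matrix.vecMul,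
    dotProduct] at h1 h2 h3
  simp only [h1, h2, add_zero, sub_zero, mul_zero, _root_.neg_zero, add_neg_eq_zero] at h3 hd
  rw [← h3, mul_self_eq_one_iff] at hd
  refine H4.mem_center_SL2.2 (hd.imp (fun e => ?_) fun e => ?_) <;> refine sl_ext ?_ ?_ ?_ ?_ <;> simp [← h3, e, h1, h2]

theorem prod_iso {A : Type*} [Group A] (ψ : A →* G) {e : G} (he : orderOf e = 2) (hc : ∀ a, Commute e (ψ a)) (N : Subgroup A)
    [N.Normal] (hk : ∀ a, ψ a ∈ zpowers e → a ∈ N) (hk' : ∀ a ∈ N, ψ a = 1) :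
    Nonempty (↥(zpowers e ⊔ ψ.range) ≃* Multiplicative (ZMod 2) × A ⧸ N) := by
  let f := QuotientGroup.lift N ψ hk'
  have hf : f.range = ψ.range := by
    ext g; exact ⟨fun ⟨a, h⟩ => QuotientGroup.induction_on a (fun a h => ⟨a, h⟩) h, fun ⟨a, h⟩ => ⟨a, h⟩⟩
  have h1 : ∀ (m : zpowers e) n, Commute ((zpowers e).subtype m) (f n) := fun ⟨_, k, rfl⟩ n =>
    QuotientGroup.induction_on n fun a => (hc a).zpow_left k
  have h2 := (MonoidHom.noncommCoprod_injective _ _ h1).2 ⟨subtype_injective _, (injective_iff_map_eq_one _).2 fun a =>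
    QuotientGroup.induction_on a fun a h => (QuotientGroup.eq_one_iff a).2 (hk a (show f a ∈ _ from h ▸ one_mem _)), by
      rw [hf, range_subtype, disjoint_def]
      rintro _ h ⟨a, rfl⟩; exact hk' a (hk a h)⟩
  haveI : Fact (Nat.Prime 2) := ⟨Nat.prime_two⟩
  exact ⟨(MulEquiv.subgroupCongr (by rw [MonoidHom.noncommCoprod_range, hf, range_subtype])).trans
    ((MonoidHom.ofInjective h2).symm.trans (MulEquiv.prodCongr
      (mulEquivOfPrimeCardEq (p := 2) ((Nat.card_zpowers e).trans he) (by simp)) (.refl _)))⟩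
end sl

namespace StN.Tw.Re
variable {D : ChevalleyDatum} {R : RS D} {F : Type*} [Field F] {G : Type*} [Group G] {S : StN R F G} {Y : R.Sym} {T : S.Tw Y}
  {G' : Type*} [Group G'] {ι : G' →* G}

section
variable {B : Type} {orb : I D → B} (Z : T.Re orb ι)
include Z

theorem H_inf_U {g : G'} (h : ι g ∈ S.H) (h' : ι g ∈ S.U {r | R.Pos r}) : g = 1 := by
  obtain ⟨m, hm, hl⟩ := Z.exists_lift (w0_mem Y)
  have := Z.eq_one (g := m * g * m⁻¹) (by simpa using S.H_le_B (N_conj_H hm h)) (by simpa using (w0_V hm hl).2 h')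
  simpa using this

theorem card_CB [Finite G'] {C : Subgroup G'} (hC : S.H.comap ι ≤ C) : Nat.card ↥(C ⊓ S.B.comap ι) =
    Nat.card (S.H.comap ι) * Nat.card ↥(C ⊓ (S.U {r | R.Pos r}).comap ι) := by
  rw [← H1.card_sup_mul_card_inf (fun k hk => mem_normalizer_iff.2 fun u => and_congr
    ((mul_mem_cancel_right (inv_mem (hC hk))).trans (mul_mem_cancel_left (hC hk))).symm
    ⟨fun h => by simpa using H_conj_U hk h, fun h => by simpa [mul_assoc] using H_conj_U (inv_mem hk) h⟩),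
    (eq_bot_iff_forall (comap ι S.H ⊓ (C ⊓ comap ι (S.U {r | R.Pos r})))).2 fun g h => Z.H_inf_U h.1 h.2.2, card_bot, mul_one]
  congr 2
  refine le_antisymm (fun g h => ?_) (sup_le (le_inf hC (comap_mono S.H_le_B)) (inf_le_inf_left _ (comap_mono S.U_le_B)))
  obtain ⟨u, k, hu, hk, rfl⟩ := Z.mem_B h.2
  exact mul_mem (mem_sup_right ⟨(mul_mem_cancel_right (hC hk)).1 h.1, hu⟩) (mem_sup_left hk)

theorem normalizer_sylow [Finite F] (p : ℕ) [Fact p.Prime] [CharP F p] [Finite G'] :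
    normalizer (Z.sylow p : Set G') = S.B.comap ι := by
  ext g
  refine mem_normalizer_iff.trans ⟨fun h => Z.mem_B_iff.2 fun u => (h u).1, fun h u => ⟨Z.mem_B_iff.1 h u, fun hu => ?_⟩⟩
  exact (Z.mem_sylow p).2 (by simpa [mul_assoc] using Z.mem_B_iff.1 (inv_mem (s := S.B.comap ι) h) _ hu)
end

variable {orb : I D → Fin 1} (Z : T.Re orb ι)
include Z

theorem rk1 (g : G') : ι g ∈ S.B ∨ ∃ u m v, ι u ∈ S.U {r | R.Pos r} ∧ ι m ∈ S.N ∧ S.Lift (ι m) (R.wJ Set.univ) ∧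
    ι v ∈ S.U {r | R.Pos r} ∧ g = u * m * v := by
  have : orb ⁻¹' {0} = Set.univ := Set.eq_univ_of_forall fun _ => Subsingleton.elim _ _
  refine (Z.mem_Par (b := 0) (by
    obtain ⟨b, hb, m, hm, c, hc, e⟩ := StN.bruhat (Z.gen ▸ mem_top (ι g) : ι g ∈ S.U Set.univ)
    obtain ⟨w, hw⟩ := StN.exists_lift hm
    exact mem_Par_iff.2 ⟨b, hb, m, hm, w, by rw [this, R.ex.par_univ]; trivial, hw, c, hc, e⟩)).imp_right fun ⟨u, m, v, h1, h2, h3, h4, h5⟩ =>
    ⟨u, m, v, h1, h2, this ▸ h3, U_mono (fun _ h => h.1) h4, h5⟩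

theorem ti {u g : G'} (hu : ι u ∈ S.U {r | R.Pos r}) (h1 : u ≠ 1) (h : ι (g * u * g⁻¹) ∈ S.U {r | R.Pos r}) : ι g ∈ S.B := by
  refine (Z.rk1 g).resolve_right fun ⟨a, m, v, ha, hm, hl, hv, e⟩ => h1 ?_
  have := Z.eq_one (g := v * u * v⁻¹) (by simpa using S.U_le_B (mul_mem (mul_mem hv hu) (inv_mem hv)))
    ((w0_U hm hl).1 (by simpa [e, mul_assoc] using mul_mem (mul_mem (inv_mem ha) h) ha))
  simpa using this

end StN.Tw.Re

theorem exists_lift_hom {A G G' : Type*} [Group A] [Group G] [Group G'] {ι : G' →* G} (hι : Function.Injective ι) (f : A →* G)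
    (h : ∀ a, f a ∈ ι.range) : ∃ f' : A →* G', ∀ a, ι (f' a) = f a :=
  ⟨(MonoidHom.ofInjective hι).symm.toMonoidHom.comp (f.codRestrict _ h), fun _ => MonoidHom.apply_ofInjective_symm hι _⟩

/-- the structure of `²G₂(q)` -/
structure ReeF (G K : Type*) [Group G] [Field K] (a : ℕ) extends ReeG G a where
  hh : Kˣ →* G
  inj : Function.Injective hh
  he : e = hh (-1)
  fpf : ∀ c, c * c ≠ 1 → ∀ u ∈ U, hh c * u * (hh c)⁻¹ = u → u = 1
  iso : Nonempty (centralizer {e} ≃* Multiplicative (ZMod 2) × PSL(2, K))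
  n : G
  two : ∀ g, g ∈ normalizer (U : Set G) ∧ n⁻¹ * g * n ∈ normalizer (U : Set G) ↔ g ∈ hh.range
  rk1 : ∀ g, g ∈ normalizer (U : Set G) ∨ ∃ u ∈ U, n⁻¹ * u * g ∈ normalizer (U : Set G)
  opp : ∀ u ∈ U, n⁻¹ * u * n ∈ normalizer (U : Set G) → u = 1

section ree
variable {K : Type*} [Field K] [CharP K 3] {θ : K →+* K} {G : Type*} [Group G] {S : StN rsG2 K G}

theorem ree_cube (x : K × K × K) : S.WN (reeW θ x) ^ 3 = S.WN [(9, 2 * (θ x.1 ^ 2 * x.1)), (11, 2 * (θ x.1 ^ 3 * x.1 ^ 2))] := by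
  have := S.rel12.collEq_sound (CharP.cast_eq_zero K 3) (fun i => ((reeW θ x).getD i (0, 0)).2) (key := id) (k := 100)
    (w := gw [7, 6, 8, 9, 10, 11] ++ gw [7, 6, 8, 9, 10, 11] ++ gw [7, 6, 8, 9, 10, 11])
    (w' := [(9, [(2, [2, 1])]), (11, [(2, [3, 2])])]) (by decide +kernel)
  simp only [wev_append, wev_eq] at this
  simpa [gw, peval, meval, pX, List.zipIdx, reeW, pow_succ] using this

theorem ree_nine (x : K × K × K) : S.WN (reeW θ x) ^ 9 = 1 := by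
  have := S.rel12.collEq_sound (CharP.cast_eq_zero K 3) (fun i => if i = 0 then 2 * (θ x.1 ^ 2 * x.1) else 2 * (θ x.1 ^ 3 * x.1 ^ 2))
    (key := id) (k := 100) (w := gw [9, 11] ++ gw [9, 11] ++ gw [9, 11]) (w' := []) (by decide +kernel)
  simp only [wev_append, wev_eq] at this
  rw [show 9 = 3 * 3 from rfl, pow_mul, ree_cube]
  simpa [gw, peval, meval, pX, List.zipIdx, pow_succ] using this.trans (show _ = 1 from rfl)

theorem ree_three (x : K × K × K) : S.WN (reeW θ x) ^ 3 = 1 ↔ x.1 = 0 := by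
  have h0 : S.WN [(9, (0 : K)), (11, 0)] = 1 := by simp [WN, xN]
  rw [ree_cube]
  refine ⟨fun h => ?_, fun h => by simpa [h] using h0⟩
  have := WN_inj_pos (l := [9, 11]) (by decide) rfl rfl (h.trans h0.symm)
  have h2 : (2 : K) ≠ 0 := Ring.two_ne_zero (by rw [ringChar.eq K 3]; decide)
  simp [h2] at this
  exact this

omit [CharP K 3] in
theorem reeW_mid (t : K) : S.WN (reeW θ (0, t, 0)) = S.x ⟨10, by decide⟩ t * S.x ⟨8, by decide⟩ (θ t) ∧
    S.WN (reeW' θ (0, -t, 0)) = S.x ⟨1, by decide⟩ t * S.x ⟨3, by decide⟩ (θ t) := by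
  rw [(x_comm (by decide) (by decide +kernel) (by decide +kernel) t (θ t)).eq,
    (x_comm (r := ⟨1, _⟩) (by decide) (by decide +kernel) (by decide +kernel) t (θ t)).eq]
  simp [WN, xN, reeW, reeW', show chevG2.nroots = 12 from rfl]

omit [CharP K 3] in
theorem ree_psi (hπ : Function.Injective S.π) : ∃ ψ : SL(2, K) →* G, (∀ t, ψ (slU t) = S.WN (reeW θ (0, t, 0))) ∧
    (∀ t, ψ (slL t) = S.WN (reeW' θ (0, -t, 0))) ∧ (∀ c, ψ (slD c) = S.hp ![c * Units.map θ c, c * Units.map θ c ^ 3]) ∧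
    ∃ g, ψ g ∈ S.N ∧ S.Lift (ψ g) (rsG2.wJ Set.univ) := by
  let r : Φ chevG2 := ⟨10, by decide⟩
  let s : Φ chevG2 := ⟨8, by decide⟩
  obtain ⟨φ, h1, h2⟩ := S.exists_sl2 r (hr_mul hπ _)
  obtain ⟨φ', h1', h2'⟩ := S.exists_sl2 s (hr_mul hπ _)
  have ho : Orth rsG2 r s := by decide +kernel
  have hc : ∀ a b, Commute (φ a) ((φ'.comp (Matrix.SpecialLinearGroup.map θ)) b) := fun a b => ho.comm
    (sl_range φ (fun t => h1 t ▸ x_mem (by simp) _) (fun t => h2 t ▸ x_mem (by simp) _) ⟨a, rfl⟩)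
    (sl_range φ' (fun t => h1' t ▸ x_mem (by simp) _) (fun t => h2' t ▸ x_mem (by simp) _) ⟨_, rfl⟩)
  have hU : ∀ t, Matrix.SpecialLinearGroup.map θ (slU t) = slU (θ t) := fun t => by refine sl_ext ?_ ?_ ?_ ?_ <;> simp
  have hL : ∀ t, Matrix.SpecialLinearGroup.map θ (slL t) = slL (θ t) := fun t => by refine sl_ext ?_ ?_ ?_ ?_ <;> simp
  let ψ := (MonoidHom.noncommCoprod _ _ hc).comp ((MonoidHom.id _).prod (MonoidHom.id _))
  have hψ : ∀ g, ψ g = φ g * φ' (Matrix.SpecialLinearGroup.map θ g) := fun _ => rfl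
  refine ⟨ψ, fun t => ?_, fun t => ?_, fun c => ?_, slU 1 * slL (-1) * slU 1, ?_⟩
  · rw [hψ, hU, h1, h1', (reeW_mid t).1]
  · rw [hψ, hL, h2, h2', (reeW_mid t).2]; rfl
  · have : ψ (slD c) = S.hr r c * S.hr s (Units.map θ c) := by simp [hψ, slD, hU, hL, h1, h2, h1', h2', hr, nr]
    rw [this, hr_eq_hp (rel3_of_inj hπ), hr_eq_hp (rel3_of_inj hπ), hp_mul (rel3_of_inj hπ)]
    have : ∀ j : Fin 2, rsG2.cv 10 j = ![1, 1] j ∧ rsG2.cv 8 j = ![1, 3] j := by decide +kernel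
    rw [show rsG2.cvec r = _ from funext fun j => (this j).1, show rsG2.cvec s = _ from funext fun j => (this j).2]
    congr 1
    ext i : 1
    fin_cases i
    exacts [congrArg₂ (· * ·) (zpow_one c) (zpow_one (Units.map θ c)), congrArg₂ (· * ·) (zpow_one c) (zpow_ofNat (Units.map θ c) 3)]
  · have : ψ (slU 1 * slL (-1) * slU 1) = S.nr r 1 * S.nr s 1 := by simp [hψ, hU, hL, h1, h2, h1', h2', nr]
    rw [this]
    refine ⟨mul_mem (nr_mem_N _ _) (nr_mem_N _ _), eq_w0 (w := rsG2.rr r * rsG2.rr s) (fun i => ?_) ▸ (lift_nr _ _).mul (lift_nr _ _)⟩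
    obtain ⟨t, h3, h4⟩ : ∃ t, rsG2.vec (rsG2.sim i) - rsG2.pr s (rsG2.sim i) • rsG2.vec s = rsG2.vec t ∧
      rsG2.vec t - rsG2.pr r t • rsG2.vec r = rsG2.vec (rsG2.neg (rsG2.sim i)) := by revert i; decide +kernel
    rw [mul_smul, rsG2.vec_inj ((vec_rr _ _).trans h3), rsG2.vec_inj ((vec_rr _ _).trans h4)]
    exact fun h => (rsG2.pos_neg_iff _).1 h (rsG2.pos_sim i)

theorem exists_reeF [Fintype K] {m a : ℕ} (hK : Fintype.card K = 3 ^ (2 * m + 1)) (ha : 3 ^ (2 * m + 1) = qq a) {T : S.Tw symG2}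
    (A : T.Act pi2G2 (fun _ => 1) expG2 θ) (h2 : ∀ t, θ (θ t) ^ 3 = t) {Γ : Type*} [Group Γ] [Finite Γ] {ι : Γ →* G}
    (Z : T.Re orb2G2.orb ι) (hr : ι.range ≤ T.G1 orb2G2.orb)
    (tor : ∃ (T N : Fin 4 → Subgroup Γ) (y : Fin 4 → Γ), (∀ i, TorD (T i) (N i) (y i) (vv i) (kk a i) (ww i)) ∧
      ∀ g : Γ, ¬ 3 ∣ orderOf g → ∃ i x, x * g * x⁻¹ ∈ T i) (invol : ∀ b c : Γ, orderOf b = 2 → orderOf c = 2 → IsConj b c) :
    ∃ X : ReeF Γ K a, X.U = Z.sylow 3 ∧ X.hh.range = S.H.comap ι := by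
  have h3 := rel3_of_inj Z.hπ
  have hinj := hp_inj_of_ker h3 (kerG2.ker_eq_bot (K := K))
  have hq : Nat.card K = qq a := by rw [Nat.card_eq_fintype_card, hK, ha]
  have hP : ∀ x, S.WN (reeW θ x) ∈ S.U {r | rsG2.Pos r} ⊓ T.Fix := fun x => subP2G2 ▸ (mem2G2_P A h2).2 ⟨x, rfl⟩
  have hV : ∀ x, S.WN (reeW' θ x) ∈ S.U {r | ¬ rsG2.Pos r} ⊓ T.Fix := fun x => subN2G2 ▸ (mem2G2_N A h2).2 ⟨x, rfl⟩
  choose uu huu using fun x => Z.pre (Z.nt.U_le (hP x))
  have hU : ∀ g, ι g ∈ S.U {r | rsG2.Pos r} ↔ ∃ x, g = uu x := fun g => ⟨fun h => ((mem2G2_P A h2).1 (subP2G2 ▸ ⟨h, Z.fix g⟩)).imp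
    fun x e => Z.inj (e.trans (huu x).symm), fun ⟨x, e⟩ => by rw [e, huu]; exact (hP x).1⟩
  have hui : Function.Injective uu := fun x y e => reeW_inj (by rw [← huu, e, huu])
  obtain ⟨hh, hh1⟩ := exists_lift_hom Z.inj ((hpHom h3).comp (Pi.monoidHom ![Units.map (θ : K →* K), MonoidHom.id _])) fun c =>
    Z.le (H_le2G2 A h2 Z.hπ hK (hp_mem_Fix h3 ((ac2G2 A h2).2 ⟨c, funext fun i => by fin_cases i <;> rfl⟩)))
  replace hh1 : ∀ c, ι (hh c) = S.hp ![Units.map (θ : K →* K) c, c] := fun c =>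
    (hh1 c).trans (congrArg S.hp (funext fun i => by fin_cases i <;> rfl))
  have hhi : Function.Injective hh := fun c d e => congrFun (hinj ((hh1 c).symm.trans ((congrArg ι e).trans (hh1 d)))) (1 : Fin 2)
  have hH : hh.range = S.H.comap ι := by
    refine le_antisymm (by rintro _ ⟨c, rfl⟩; exact mem_comap.2 (hh1 c ▸ hp_mem _)) fun g hg => ?_
    obtain ⟨c, hc, e⟩ := (T.H_inf_Fix h3 hinj).le (⟨hg, Z.fix g⟩ : ι g ∈ S.H ⊓ T.Fix)
    obtain ⟨d, rfl⟩ := (ac2G2 A h2).1 hc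
    exact ⟨d, Z.inj ((hh1 d).trans e)⟩
  have hcH : Nat.card (S.H.comap ι) = qq a - 1 := by
    rw [← hH, ← Nat.card_congr (MonoidHom.ofInjective hhi).toEquiv, Nat.card_units, hq]
  obtain ⟨ψ0, p1, p2, p3, w, p4, p5⟩ := ree_psi (θ := θ) Z.hπ
  obtain ⟨ψ, hψ⟩ := exists_lift_hom Z.inj ψ0 fun g => sl_range ψ0 (fun t => p1 t ▸ Z.le (Z.nt.U_le (hP _)))
    (fun t => p2 t ▸ Z.le (Z.nt.V_le (hV _))) ⟨g, rfl⟩
  have he : ι (hh (-1)) = S.hp (-1) := (hh1 _).trans (congrArg _ (funext fun i => by fin_cases i; exacts [show Units.map _ (-1) = -1 from Units.ext (by simp), rfl]))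
  have he2 : orderOf (hh (-1)) = 2 := by
    rw [orderOf_injective _ hhi, ← orderOf_units, Units.val_neg, Units.val_one, orderOf_neg_one, ringChar.eq K 3]; rfl
  have hfix : ∀ r, r ∈ S.fixR {ι (hh (-1))} ↔ (r : ℕ) ∈ [1, 3, 8, 10] := fun r => by
    rw [he, fixR_hp, Set.mem_setOf, cv'_tau]
    simp only [Pi.neg_apply, Pi.one_apply, ← zpow_sum', ← orderOf_dvd_iff_zpow_eq_one, orderOf_injective _ hhi _ ▸ he2]
    revert r; decide +kernel
  have hC : ∀ g, ψ g ∈ centralizer {hh (-1)} := fun g => mem_centralizer_singleton_iff.2 (Z.inj (by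
    rw [map_mul, map_mul, hψ, eq_comm, ← mul_inv_eq_iff_eq_mul]
    refine U_fix_comm (S := S) (A := {ι (hh (-1))}) (sl_range ψ0 (fun t => ?_) (fun t => ?_) ⟨g, rfl⟩) rfl
    · rw [p1, (reeW_mid t).1]; exact mul_mem (x_mem ((hfix _).2 (by decide)) _) (x_mem ((hfix _).2 (by decide)) _)
    · rw [p2, (reeW_mid t).2]; exact mul_mem (x_mem ((hfix _).2 (by decide)) _) (x_mem ((hfix _).2 (by decide)) _)))
  have hA : ∀ c, ∀ k ∈ ({ι (hh c)} : Set G), k ∈ S.H := by rintro c _ rfl; exact hH.le ⟨c, rfl⟩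
  have hCU : ∀ g, g ∈ centralizer {hh (-1)} ⊓ (S.U {r | rsG2.Pos r}).comap ι ↔ ∃ t, g = ψ (slU t) := fun g => ⟨fun h => by
    obtain ⟨x, rfl⟩ := (hU g).1 h.2
    let r : Φ chevG2 := ⟨10, by decide⟩
    let s : Φ chevG2 := ⟨8, by decide⟩
    obtain ⟨_, h4, _, h5, e⟩ := exists_mul (L := rsG2.lamf) (T₁ := {s}) (T₂ := {r})
      (closed_pos'.inter (closed_fixR (hA (-1)))) (fun _ h => h.1) (by
        ext t; simp only [Set.mem_inter_iff, hfix, Set.mem_setOf, Pos, Set.mem_union, Set.mem_singleton_iff]; revert t; decide +kernel)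
      (mem_U_fix (hA _) closed_pos' (fun _ h => h) h.2 (by
        rintro _ rfl; rw [← map_mul, ← mem_centralizer_singleton_iff.1 h.1]; simp))
    obtain ⟨b, rfl⟩ := mem_U_singleton.1 h4
    obtain ⟨c, rfl⟩ := mem_U_singleton.1 h5
    have := WN_inj_pos (l := [7, 6, 8, 9, 10, 11]) (by decide) rfl (w' := [(7, 0), (6, 0), (8, b), (9, 0), (10, c), (11, 0)]) rfl
      ((huu x).symm.trans (e.trans (by simp [WN, xN, show chevG2.nroots = 12 from rfl, r, s])))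
    simp only [reeW, List.cons.injEq, Prod.mk.injEq, true_and] at this
    exact ⟨x.2.1, Z.inj (by rw [huu, hψ, p1]; congr 2; exact Prod.ext this.2.1 (Prod.ext rfl this.2.2.2.2.2.1))⟩,
    by rintro ⟨t, rfl⟩; exact ⟨hC _, mem_comap.2 (by rw [hψ, p1]; exact (hP _).1)⟩⟩
  have hUi : Function.Injective fun t => ψ (slU t) := fun t u e => congrArg (·.2.1) (reeW_inj (θ := θ) (S := S)
    (a := (0, t, 0)) (b := (0, u, 0)) (by rw [← p1, ← p1, ← hψ, ← hψ]; exact congrArg ι e))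
  have hHC : S.H.comap ι ≤ centralizer {hh (-1)} := fun g hg => mem_centralizer_singleton_iff.2 (by
    obtain ⟨c, rfl⟩ := hH.ge hg; rw [← map_mul, ← map_mul, mul_comm])
  have hHM : S.H.comap ι ≤ zpowers (hh (-1)) ⊔ ψ.range := fun g hg => by
    obtain ⟨c, rfl⟩ := hH.ge hg
    have hd : ∀ d, hh (d * d) ∈ zpowers (hh (-1)) ⊔ ψ.range := fun d => mem_sup_right ⟨slD (Units.map (θ : K →* K) d ^ 3 * d⁻¹), Z.inj (by
      rw [hψ, p3, hh1]
      congr 1; ext i : 1; ext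
      have h4 := d.ne_zero
      have h5 := (map_ne_zero θ).2 h4
      fin_cases i <;> simp [h2] <;> field_simp)⟩
    have h4 := hd (c ^ (3 * a ^ 2 + 3 * a + 1))
    have h5 : c ^ (6 * a ^ 2 + 6 * a + 1) * c ^ (6 * a ^ 2 + 6 * a + 1) = 1 := by
      rw [← pow_add, ← pow_card_eq_one' (x := c), Nat.card_units, hq, qq]; congr 1; omega
    rw [← pow_add, show _ + _ = 6 * a ^ 2 + 6 * a + 1 + 1 by ring, pow_succ, map_mul] at h4
    rcases mul_self_eq_one_iff.1 (congrArg Units.val h5) with h | h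
    · rw [show c ^ _ = 1 from Units.ext h] at h4; simpa using h4
    · rw [show c ^ _ = -1 from Units.ext h] at h4; exact (mul_mem_cancel_left (mem_sup_left (mem_zpowers _))).1 h4
  have hM : centralizer {hh (-1)} = zpowers (hh (-1)) ⊔ ψ.range := by
    refine le_antisymm (fun g hg => ?_) (sup_le (zpowers_le.2 (hHC (hH.le ⟨_, rfl⟩))) (by rintro _ ⟨g, rfl⟩; exact hC g))
    have hu : ∀ u, ι u ∈ S.U {r | rsG2.Pos r} → ι (hh (-1)) * ι u * (ι (hh (-1)))⁻¹ = ι u → u ∈ zpowers (hh (-1)) ⊔ ψ.range :=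
      fun u h e => by
        obtain ⟨t, rfl⟩ := (hCU u).1 ⟨mem_centralizer_singleton_iff.2 (Z.inj (by simpa using (mul_inv_eq_iff_eq_mul.1 e).symm)), h⟩
        exact mem_sup_right ⟨_, rfl⟩
    obtain ⟨u, n, v, h4, h5, w', h6, h7, h8, rfl⟩ := Z.bruhat g
    obtain ⟨e1, -, e2⟩ := conj_bruhat h4 h5 h7 h8 (hA (-1) _ rfl) (hA (-1) _ rfl) (by
      simp only [← map_mul, ← map_inv]; rw [mem_centralizer_singleton_iff.1 hg, mul_inv_cancel_right])
    refine mul_mem (mul_mem (hu u h4 e1) ?_) (hu v (U_mono (fun _ h => h.1) h8) e2)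
    obtain ⟨j, rfl⟩ := wG_bij.2 w'
    have : ∀ j, symG2.cw (wG j) = wG j → wG j = 1 ∨ ∀ i, ¬ rsG2.Pos (wG j • rsG2.sim i) := by
      simp only [W_eq_iff, Pos]; decide +kernel
    rcases (this j h6).imp_right eq_w0 with e | e <;> rw [e] at h7
    · exact hHM (h7.mem_H h5)
    · rw [← hψ] at p4 p5
      simpa using mul_mem (hHM (show ι (n * (ψ w)⁻¹) ∈ S.H by simpa using h7.mul_inv_mem h5 p4 p5)) (mem_sup_right ⟨w, rfl⟩)
  have hiso := prod_iso ψ he2 (fun g => (mem_centralizer_singleton_iff.1 (hC g)).symm) (center _) (fun g hg =>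
    sl_central ψ (B := S.B.comap ι) (fun t => S.U_le_B ((hCU _).2 ⟨t, rfl⟩).2) (fun t h => by
      have := congrArg ι (Z.eq_one h (by rw [hψ, p2]; exact (hV _).1))
      rw [hψ, p2, map_one] at this
      by_contra h0
      exact WN_ne_one (by simp [reeW']; decide) (a := (1, - -t)) (by simp [reeW']) (by simpa) this) fun x => by
      obtain ⟨k, hk⟩ := hg
      have := mem_centralizer_singleton_iff.1 (hC x)
      rw [map_mul, map_mul, map_inv, ← hk, ((show Commute _ _ from this).zpow_right k).eq, mul_inv_cancel_right]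
      exact zpow_mem (K := S.B.comap ι) (S.H_le_B (hH.le ⟨_, rfl⟩)) k) (fun g hg => by
    rcases H4.mem_center_SL2.1 hg with rfl | rfl
    · exact map_one _
    · refine Z.inj (by rw [hψ, ← slD_neg, p3, map_one, ← map_one (hpHom h3)]; exact congrArg S.hp (funext fun i => by
        fin_cases i <;> simp [pow_succ] <;> rfl)))
  obtain ⟨T', N, y, t1, t2⟩ := tor
  have hB := Z.normalizer_sylow 3
  have hcU : Nat.card (Z.sylow 3) = qq a ^ 3 := (card_param uu hui hU).trans (by rw [Nat.card_prod, Nat.card_prod, hq]; ring)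
  have hcCU := (card_param _ hUi hCU).trans hq
  obtain ⟨n, hn, hl⟩ := Z.exists_lift (w0_mem symG2)
  refine ⟨⟨⟨T', N, y, t1, t2, invol, ?_, Z.sylow 3, hcU, ?_, fun u hu h1 g hg => hB ▸ Z.ti hu h1 hg, fun u hu => ?_, ?_, hh (-1), he2,
    ?_, hcCU, ?_, fun u hu => ?_⟩, hh, hhi, rfl, fun c hc u hu e => ?_, hM ▸ hiso, n, fun g => ?_, fun g => ?_, fun u hu h => ?_⟩, rfl, hH⟩
  · rw [← ha, ← card2G2 A h2 Z.hπ hK, ← le_antisymm hr Z.le]; exact Nat.card_congr (MonoidHom.ofInjective Z.inj).toEquiv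
  · rw [hB, ← top_inf_eq (S.B.comap ι), Z.card_CB le_top, top_inf_eq, hcH, mul_comm]; exact congrArg (· * _) hcU
  · obtain ⟨x, rfl⟩ := (hU u).1 hu; exact Z.inj (by rw [map_pow, huu, ree_nine, map_one])
  · rw [← hq, sq, ← Nat.card_prod, ← Set.ncard_univ, ← Set.ncard_image_of_injective _
      (hui.comp (Prod.mk_right_injective (0 : K))), Set.image_univ]
    congr 1; ext u
    refine ⟨fun ⟨h, h'⟩ => ?_, fun ⟨x, e⟩ => e ▸ ⟨(hU _).2 ⟨_, rfl⟩, Z.inj (by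
      rw [map_pow, Function.comp_apply, huu, map_one, ree_three])⟩⟩
    obtain ⟨x, rfl⟩ := (hU u).1 h
    exact ⟨x.2, by rw [← (ree_three x).1 (by rw [← huu, ← map_pow, h', map_one])]; rfl⟩
  · obtain ⟨f⟩ := hiso
    have := H4.card_PSL_two (F := K)
    rw [hK, ha, show Nat.gcd 2 _ = 2 from Nat.gcd_eq_left ⟨6 * a ^ 2 + 6 * a + 1, by rw [qq]; omega⟩] at this
    rw [hM, Nat.card_congr f.toEquiv, Nat.card_prod, ← this]; simp
  · rw [hB, Z.card_CB hHC, hcH, hcCU, mul_comm]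
  · obtain ⟨t, rfl⟩ := (hCU u).1 hu; exact Z.inj (by rw [map_pow, hψ, p1, map_one, ree_three])
  · have := mem_U_fix (hA c) closed_pos' (fun _ h => h) hu (by rintro _ rfl; simpa using congrArg ι e)
    rw [show _ ∩ _ = ∅ from Set.eq_empty_of_forall_notMem fun r h => hc ?_, U_empty] at this
    · exact Z.inj (this.trans (map_one _).symm)
    · have h4 := (fixR_hp _).le (hh1 c ▸ h.2)
      have := sq_of_ree (w := 1) h4 (Units.ext ((T.cv'_σ (g := ι (hh c)) (hh1 c ▸ diag_hp _) (by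
        rw [show T.σ _ = _ from Z.fix _, hh1]; exact diag_hp _) r).trans (by erw [h4]; exact map_one _)))
      exact congrFun (mem_bot.1 (kerG2.ker_eq_bot.le ((map_mul _ _ _).trans this))) (1 : Fin 2)
  · rw [hB, hH]
    refine ⟨fun ⟨h4, h5⟩ => ?_, fun h => ⟨S.H_le_B h, by simpa using S.H_le_B (N_conj_H (inv_mem hn) h)⟩⟩
    obtain ⟨u, k, hu, hk, rfl⟩ := Z.mem_B h4
    have := Z.eq_one (g := n⁻¹ * u * n) (by
      simpa [mul_assoc] using mul_mem (mem_comap.1 h5) (S.H_le_B (N_conj_H (inv_mem hn) (inv_mem hk))))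
      (by simpa using (Re.w0_V (inv_mem hn) (hl.inv_wJ hn)).2 hu)
    rwa [show u = 1 by simpa [mul_assoc, inv_mul_eq_one] using this, one_mul]
  · refine (Z.rk1 g).imp (hB.ge ·) fun ⟨u, k, v, h4, h5, h6, h7, e⟩ => ⟨u⁻¹, inv_mem (s := Z.sylow 3) h4, hB.ge ?_⟩
    simpa [e, mul_assoc] using mul_mem (S.H_le_B (hl.inv_mul_mem hn h5 h6)) (S.U_le_B h7)
  · simpa [mul_assoc, inv_mul_eq_one] using Z.eq_one (g := n⁻¹ * u * n) (hB.le h) (by simpa using (Re.w0_V (inv_mem hn) (hl.inv_wJ hn)).2 hu)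

end ree

theorem exists_ree {K : Type*} [Field K] [Fintype K] {m : ℕ} (hK : Fintype.card K = 3 ^ (2 * m + 1)) :
    ∃ a, 3 ^ m = 2 * a + 1 ∧ 3 ^ (2 * m + 1) = qq a ∧ Finite (twistedG2 K (3 ^ m)) ∧ ∃ X : ReeF (twistedG2 K (3 ^ m)) K a,
      (∀ g, g ∈ X.U ↔ g.1 ∈ chevG2.posUnipotent K) ∧ (∀ g, g ∈ X.hh.range ↔ g.1 ∈ chevG2.diagonalSubgroup K) ∧
      normalizer (X.U : Set (twistedG2 K (3 ^ m))) = (chevG2.borelSubgroup K ⊓ twistedG2 K (3 ^ m)).subgroupOf _ := by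
  haveI := charP_of_card Nat.prime_three hK
  obtain ⟨θ, hθ, h2⟩ := exists_theta Nat.prime_three hK
  obtain ⟨a, ha⟩ : Odd (3 ^ m) := Odd.pow (by decide)
  have hq : 3 ^ (2 * m + 1) = qq a := by rw [pow_succ, pow_mul', ha, qq]; ring
  have Z := (nt2G2 (act2G2 θ) h2).re (eq2G2 h2 hθ)
  let L := alg2G2 (AlgebraicClosure K) hK hθ
  have h : L.SC := fun g _ e => rsG2.adj_inj _ (by rw [map_one]; exact congrArg Subtype.val e)
  obtain ⟨X, h3, h4⟩ := exists_reeF hK hq (act2G2 θ) h2 Z (Γ_range (eq2G2 h2 hθ)).le (h.ree fun i t => by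
    refine ((act2G2 _).φ _ t).trans ?_
    rw [iterateFrobenius_def, ← pow_mul, ← ha]
    fin_cases i
    exacts [congrArg _ (mul_comm _ 3), congrArg _ (mul_one _)]) fun b c => h.isConj_invol (by decide)
  refine ⟨a, ha, hq, inferInstance, X, fun g => ?_, fun g => ?_, ?_⟩
  · rw [h3, Z.mem_sylow, rsG2.adj_U, rsG2.pos_eq]; rfl
  · rw [h4, mem_comap, rsG2.adj_H]; rfl
  · rw [h3, Z.normalizer_sylow, B_Γ (eq2G2 h2 hθ)]

theorem ree_num {m a : ℕ} (ha : 3 ^ m = 2 * a + 1) (hq : 3 ^ (2 * m + 1) = qq a) : (3 ^ (2 * m + 1) - 1) / 2 = kk a 0 ∧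
    (3 ^ (2 * m + 1) + 1) / 4 = kk a 1 ∧ 3 ^ (2 * m + 1) - 3 ^ (m + 1) + 1 = kk a 2 ∧ 3 ^ (2 * m + 1) + 3 ^ (m + 1) + 1 = kk a 3 := by
  have : a ≤ a ^ 2 := Nat.le_self_pow two_ne_zero a
  rw [hq, pow_succ, ha]; simp [qq, kk]; omega

theorem kk_one_lt {m a : ℕ} (hm : 1 ≤ m) (ha : 3 ^ m = 2 * a + 1) (i : Fin 4) : 1 < kk a i := by
  have : 3 ≤ 3 ^ m := Nat.le_self_pow (by omega) 3
  fin_cases i <;> simp [kk] <;> omega

namespace ReeF
variable {G K : Type*} [Group G] [Field K] {a : ℕ} (X : ReeF G K a) [Finite G]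

theorem stab3 {x y z : G ⧸ normalizer (X.U : Set G)} (h1 : x ≠ y) (h2 : x ≠ z) (h3 : y ≠ z) : ∃ k,
    MulAction.stabilizer G x ⊓ MulAction.stabilizer G y ⊓ MulAction.stabilizer G z ≤ zpowers (k⁻¹ * X.e * k) := by
  obtain ⟨x, rfl⟩ := QuotientGroup.mk_surjective x
  obtain ⟨y, rfl⟩ := QuotientGroup.mk_surjective y
  obtain ⟨z, rfl⟩ := QuotientGroup.mk_surjective z
  simp only [Ne, QuotientGroup.eq] at h1 h2 h3
  obtain ⟨u, hu, h4⟩ := (X.rk1 _).resolve_left h1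
  replace hu : u ∈ normalizer (X.U : Set G) := le_normalizer (H := X.U.1) hu
  obtain ⟨v, hv, h5⟩ := (X.rk1 (u * (x⁻¹ * z))).resolve_left (by rwa [mul_mem_cancel_left hu])
  refine ⟨u * x⁻¹, fun g ⟨⟨g1, g2⟩, g3⟩ => ?_⟩
  have key : ∀ {x : G}, g ∈ MulAction.stabilizer G (x : G ⧸ normalizer (X.U : Set G)) → x⁻¹ * g * x ∈ normalizer (X.U : Set G) :=
    fun h => by simpa [mul_assoc] using QuotientGroup.eq.1 h.symm
  have h6 : X.n⁻¹ * (u * x⁻¹ * g * (u * x⁻¹)⁻¹) * X.n ∈ normalizer (X.U : Set G) := by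
    simpa [mul_assoc] using mul_mem (mul_mem h4 (key g2)) (inv_mem h4)
  obtain ⟨c, hc⟩ := (X.two (u * x⁻¹ * g * (u * x⁻¹)⁻¹)).1 ⟨by
    simpa [mul_assoc] using mul_mem (mul_mem hu (key g1)) (inv_mem hu), h6⟩
  have h7 := X.opp (v * (X.hh c * v⁻¹ * (X.hh c)⁻¹)) (mul_mem hv ((mem_normalizer_iff.1 ((X.two _).2 ⟨c, rfl⟩).1 _).1 (inv_mem hv)))
    (by simpa [hc, mul_assoc] using mul_mem (mul_mem (mul_mem h5 (key g3)) (inv_mem h5)) (inv_mem h6))
  have h8 : c * c = 1 := by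
    by_contra h
    have := X.fpf c h v⁻¹ (inv_mem hv) (eq_inv_of_mul_eq_one_right h7)
    rw [inv_eq_one] at this
    exact h3 (by simpa [this, mul_assoc] using mul_mem (inv_mem h4) h5)
  rw [show g = (u * x⁻¹)⁻¹ * X.hh c * (u * x⁻¹) by rw [hc]; group]
  rcases mul_self_eq_one_iff.1 (congrArg Units.val h8) with h | h
  · rw [show c = 1 from Units.ext h]; simp
  · rw [show c = -1 from Units.ext h, ← X.he]; exact mem_zpowers _

end ReeF

end Cfsg.Agent.H5
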