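import Cfsg.Agent.H5.AutB
import Cfsg.Agent.H5.Re3

set_option autoImplicit false
set_option maxRecDepth 100000

namespace Cfsg.Agent.H5

open Cfsg.Lie
open Matrix hiding zpow_add zpow_neg inv_zpow' inv_zpow mul_inv_rev

variable {D : ChevalleyDatum}

namespace StN
open StG RS
variable {R : RS D} {F : Type*} [Field F] {G : Type*} [Group G] {S : StN R F G}

theorem map_WN (f : G →* G) {g : ℕ → F → F} (h : ∀ (r : Φ D) t, f (S.x r t) = S.x r (g r t)) (w : List (ℕ × F)) :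
    f (S.WN w) = S.WN (w.map fun a => (a.1, g a.1 a.2)) := by
  simp only [WN, map_list_prod, List.map_map]
  congr 1
  refine List.map_congr_left fun a _ => ?_
  simp only [Function.comp, xN]
  split_ifs with h1
  exacts [h ⟨_, h1⟩ _, map_one f]

theorem Diag.conj_WN {k : G} {χ : Ch D F} (h : S.Diag k χ) (w : List (ℕ × F)) :
    k * S.WN w * k⁻¹ = S.WN (w.map fun a => (a.1, R.chN χ a.1 * a.2)) :=
  map_WN (MulAut.conj k).toMonoidHom (g := fun r (t : F) => (R.chN χ r : F) * t) (fun r t => by simpa using h.2 r t) w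

section orth
variable {K : Type*} [Field K] (l : List (I D)) (φ : I D → K →+* F)

variable (S) in
/-- positive element of an orthogonal node -/
def ox (t : K) : G := S.WN (l.map fun i => ((R.sim i : ℕ), φ i t))
variable (S) in
/-- negative element of an orthogonal node -/
def oy (t : K) : G := S.WN (l.map fun i => ((R.neg (R.sim i) : ℕ), φ i t))
variable (R) in
/-- character of the toral element of an orthogonal node -/
def oc (t : Kˣ) : Ch D F := (l.map fun i => chi (R.carf i) (Units.map (φ i : K →* F) t)).prod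

theorem ox_eq (t : K) : S.ox l φ t = (l.map fun i => S.x (R.sim i) (φ i t)).prod := by
  simp [ox, WN, Function.comp_def]
theorem oy_eq (t : K) : S.oy l φ t = (l.map fun i => S.x (R.neg (R.sim i)) (φ i t)).prod := by
  simp [oy, WN, Function.comp_def]

theorem oc_mul (a b : Kˣ) : oc R l φ (a * b) = oc R l φ a * oc R l φ b := by
  simp only [oc, map_mul, chi_mul]
  exact List.prod_map_mul (M := Ch D F)

theorem cv'_oc (t : Kˣ) (r : Φ D) : (R.cv' (oc R l φ t) r : F) = (l.map fun i => φ i t ^ R.car i r).prod := by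
  induction l with
  | nil => simp [oc]
  | cons i l ih => simp only [oc, List.map_cons, List.prod_cons, cv'_mul, Units.val_mul] at ih ⊢; rw [ih]; simp [R.carf_vec]

theorem conj_ox {k : G} {χ : Ch D F} (h : S.Diag k χ) {a : K} (ha : ∀ j ∈ l, (R.cv' χ (R.sim j) : F) = φ j a) (u : K) :
    k * S.ox l φ u * k⁻¹ = S.ox l φ (a * u) := by
  rw [ox, h.conj_WN, ox, List.map_map]
  exact congrArg _ (List.map_congr_left fun j hj => by simp [ha j hj])

variable {l φ} (hl : l.Pairwise fun i j => Orth R (R.sim i) (R.sim j))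
include hl

theorem on_eq (t : Kˣ) : S.ox l φ t * S.oy l φ (-(t : K)⁻¹) * S.ox l φ t =
    (l.map fun i => S.n i (Units.map (φ i : K →* F) t)).prod := by
  have m1 : ∀ i t, S.x (R.sim i) t ∈ S.U {R.sim i, R.neg (R.sim i)} := fun i t => x_mem (by simp) t
  have m2 : ∀ i t, S.x (R.neg (R.sim i)) t ∈ S.U {R.sim i, R.neg (R.sim i)} := fun i t => x_mem (by simp) t
  rw [ox_eq, oy_eq, ← prod_mul_orth hl (fun i => m1 i _) fun i => m2 i _,
    ← prod_mul_orth hl (fun i => mul_mem (m1 i _) (m2 i _)) fun i => m1 i _]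
  simp [StN.n, nr]

end orth

namespace Node
variable {Y : R.Sym} {T : S.Tw Y} {B : Type} {orb : I D → B} {G' : Type*} [Group G'] {ι : G' →* G} {b b' : B}
  {K K' : Type*} [Field K] [Field K'] (P : S.Node orb ι b K)

/-- the element `h(t)` -/
def h (t : Kˣ) : G' := P.n t * P.n (-1)

theorem aut' (Z : T.Re orb ι) {θ : MulAut G'} (hθ : θ ∈ S.A0 ι) (h : Tw.Re.Maps S orb ι θ b b) {χ : Kˣ → Ch D F}
    (h1 : ∀ t, S.Diag (ι (P.h t)) (χ t)) (h2 : ∀ a b, χ (a * b) = χ a * χ b) :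
    ∃ (σ : K ≃+* K) (c : Kˣ), (∀ t, θ (P.x t) = P.x (c * σ t)) ∧ ∀ t, θ (P.h t) = P.h (Units.map (σ : K →* K) t) := by
  obtain ⟨σ, c, h3, h4⟩ := P.aut Z P hθ h
  refine ⟨σ, c, fun t => (h3 t).1, fun t => Z.inj (Diag.eq Z.hπ ?_ (h1 _))⟩
  have := (h1 (c * Units.map (σ : K →* K) t)).mul (h1 c).inv
  rw [show χ (c * Units.map (σ : K →* K) t) * (χ c)⁻¹ = χ (Units.map (σ : K →* K) t) by
    rw [h2]; exact mul_inv_cancel_comm (χ c) _] at this
  convert this using 1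
  rw [Node.h, map_mul θ, h4, h4, show Units.map (σ : K →* K) (-1) = -1 from Units.ext (by simp), mul_neg_one, n_neg]
  simp [Node.h]

theorem link {θ : MulAut G'} {k k' : G'} (hk : θ k = k') {σ : K ≃+* K} {c : Kˣ} (hP : ∀ t, θ (P.x t) = P.x (c * σ t)) {a a' : K}
    (h : ∀ u, k * P.x u * k⁻¹ = P.x (a * u)) (h' : ∀ u, k' * P.x u * k'⁻¹ = P.x (a' * u)) : σ a = a' := by
  have := congrArg θ (h 1)
  rw [map_mul, map_mul, map_inv, hk, hP, hP, h'] at this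
  have := P.x_inj this
  simp only [map_one, mul_one] at this
  exact mul_left_cancel₀ c.ne_zero (this.symm.trans (mul_comm _ _))

theorem link' (Z : T.Re orb ι) (Q : S.Node orb ι b' K') {l l' : List (I D)} {φ : I D → K →+* F} {φ' : I D → K' →+* F}
    (p2 : ∀ t, S.Diag (ι (P.h t)) (oc R l φ t)) (q1 : ∀ t, ι (Q.x t) = S.ox l' φ' t) {θ : MulAut G'} {σ : K ≃+* K}
    (a2 : ∀ t, θ (P.h t) = P.h (Units.map (σ : K →* K) t)) {τ : K' ≃+* K'} {d : K'ˣ} (b1 : ∀ t, θ (Q.x t) = Q.x (d * τ t))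
    (f : K →+* K') (h : ∀ s : K, ∀ j ∈ l', (l.map fun i => φ i s ^ R.car i (R.sim j)).prod = φ' j (f s)⁻¹) (s : K) :
    τ (f s) = f (σ s) := by
  have l1 : ∀ s u, P.h s * Q.x u * (P.h s)⁻¹ = Q.x ((f s)⁻¹ * u) := fun s u => Z.inj (by
    rw [map_mul, map_mul, map_inv, q1, q1, conj_ox _ _ (p2 s) fun j hj => (cv'_oc _ _ _ _).trans (h s j hj)])
  by_cases h : s = 0
  · simp [h]
  simpa using Q.link (a2 (Units.mk0 s h)) b1 (l1 _) (l1 _)

end Node

theorem Tw.Re.exists_node {Y : R.Sym} {T : S.Tw Y} {B : Type} {orb : I D → B} {G' : Type*} [Group G'] {ι : G' →* G}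
    (Z : T.Re orb ι) {b : B} {K : Type*} [Field K] (l : List (I D)) (φ : I D → K →+* F)
    (hl : (l.Pairwise fun i j => Orth R (R.sim i) (R.sim j)) ∧ l ≠ [])
    (hP : ∀ {g}, (g ∈ S.U (R.SubP (orb ⁻¹' {b})) ⊓ T.Fix ↔ ∃ t, g = S.ox l φ t) ∧
      (g ∈ S.U (R.SubN (orb ⁻¹' {b})) ⊓ T.Fix ↔ ∃ t, g = S.oy l φ t)) :
    ∃ P : S.Node orb ι b K, (∀ t, ι (P.x t) = S.ox l φ t) ∧ ∀ t, S.Diag (ι (P.h t)) (oc R l φ t) := by
  have m1 : ∀ i t, S.x (R.sim i) t ∈ S.U {R.sim i, R.neg (R.sim i)} := fun i t => x_mem (by simp) t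
  have m2 : ∀ i t, S.x (R.neg (R.sim i)) t ∈ S.U {R.sim i, R.neg (R.sim i)} := fun i t => x_mem (by simp) t
  have m3 : ∀ i t, S.n i t ∈ S.U {R.sim i, R.neg (R.sim i)} := fun i t => S.nr_mem (by simp) (by simp) _
  choose x hx using fun t => Z.pre (T.G1b_le orb b (Subgroup.mem_sup_left (hP.1.2 ⟨t, rfl⟩)))
  choose y hy using fun t => Z.pre (T.G1b_le orb b (Subgroup.mem_sup_right (hP.2.2 ⟨t, rfl⟩)))
  refine ⟨⟨x, y, fun g => ⟨fun h => (hP.1.1 ⟨h, Z.fix g⟩).imp fun t e => Z.inj (e.trans (hx t).symm), ?_⟩,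
    fun g => ⟨fun h => (hP.2.1 ⟨h, Z.fix g⟩).imp fun t e => Z.inj (e.trans (hy t).symm), ?_⟩, fun t u => Z.inj ?_,
    fun t u => Z.inj ?_, fun t u e => ?_, fun t u => Z.inj ?_⟩, hx, fun t => ?_⟩
  · rintro ⟨t, rfl⟩; exact hx t ▸ (hP.1.2 ⟨t, rfl⟩).1
  · rintro ⟨t, rfl⟩; exact hy t ▸ (hP.2.2 ⟨t, rfl⟩).1
  · simp only [map_mul, hx, ox_eq, ← prod_mul_orth hl.1 (fun i => m1 i _) fun i => m1 i _, S.r1, map_add]
  · simp only [map_mul, hy, oy_eq, ← prod_mul_orth hl.1 (fun i => m2 i _) fun i => m2 i _, S.r1, map_add]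
  · have := congrArg ι e
    rw [hx, hx] at this
    obtain ⟨i, l', rfl⟩ := List.exists_cons_of_ne_nil hl.2
    have := Tw.WN_inj_pos (l := (i :: l').map fun i => (R.sim i : ℕ)) ⟨?_, ?_⟩ (by simp) (by simp) this
    · exact (φ i).injective (congrArg Prod.snd (List.cons.inj this).1)
    · exact List.pairwise_map.2 (hl.1.imp fun h e => h.1 (Fin.ext e.symm))
    · intro r hr
      obtain ⟨j, -, rfl⟩ := List.mem_map.1 hr
      exact ⟨(R.sim j).2, (R.pos_iff_le _).1 (R.pos_sim j)⟩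
  · simp only [map_mul, hx, hy, on_eq hl.1]
    rw [ox_eq, oy_eq, ← prod_mul_orth hl.1 (fun i => m3 i _) fun i => m1 i _, ← prod_mul_orth hl.1 (fun i => m2 i _) fun i => m3 i _]
    refine congrArg _ (List.map_congr_left fun i _ => ?_)
    simpa [StN.n] using mul_inv_eq_iff_eq_mul.1 (nr_conj_self (S := S) (R.sim i) (Units.map (φ i : K →* F) t) (φ i u))
  · simp only [Node.h, Node.n, map_mul, hx, hy, on_eq hl.1]
    rw [← prod_mul_orth hl.1 (fun i => m3 i _) fun i => m3 i _, oc]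
    clear hx hy hP hl x y
    induction l with
    | nil => exact diag_one
    | cons i l ih =>
      refine Diag.mul ?_ ih
      beta_reduce
      rw [show Units.map (φ i : K →* F) (-1) = -1 from Units.ext (by simp)]
      exact diag_h i _

namespace Tw.Re
variable {Y : R.Sym} {T : S.Tw Y} {G' : Type*} [Group G'] {ι : G' →* G} {θ : MulAut G'}

theorem Maps.card {B : Type} {orb : I D → B} (Z : T.Re orb ι) {b b' : B} (h : Maps S orb ι θ b b') :
    Nat.card ↥(S.U (R.SubP (orb ⁻¹' {b'})) ⊓ T.Fix) = Nat.card ↥(S.U (R.SubP (orb ⁻¹' {b})) ⊓ T.Fix) := by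
  have key : ∀ b, Nat.card ↥(S.U (R.SubP (orb ⁻¹' {b})) ⊓ T.Fix) = Nat.card ((S.U (R.SubP (orb ⁻¹' {b}))).comap ι) := fun b => by
    rw [← Subgroup.card_map_of_injective Z.inj, Subgroup.map_comap_eq, inf_comm ι.range]
    congr 2
    exact le_antisymm (fun u hu => ⟨hu.1, Z.le (Z.nt.U_le ⟨U_mono (fun _ h => h.1) hu.1, hu.2⟩)⟩) fun u ⟨h1, g, e⟩ => ⟨h1, e ▸ Z.fix g⟩
  rw [key, key]
  exact (Nat.card_congr (θ.toEquiv.subtypeEquiv fun g => (h g).1.symm)).symm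

theorem maps_self {k : ℕ} {O : Y.OrbD k} (Z : T.Re O.orb ι) {q : ℕ} (hq : 1 < q) {a : ℕ → ℕ}
    (hc : ∀ b : Fin k, Nat.card ↥(S.U (R.SubP (O.orb ⁻¹' {b})) ⊓ T.Fix) = q ^ a b) (M : Fin k → Fin k → ℕ)
    (hM : O.OrdChk M ∧ ∀ π : Fin k → Fin k, (∀ b, a (π b) = a b) → (∀ b c, M (π b) (π c) = M b c) → ∀ b, π b = b)
    (hθ : θ ∈ S.A0 ι) (b : Fin k) : Maps S O.orb ι θ b b := by
  obtain ⟨π, h⟩ := Z.exists_perm hθ
  have h1 : ∀ b c, orderOf (R.wJ (O.orb ⁻¹' {b}) * R.wJ (O.orb ⁻¹' {c})) = M b c := fun b c =>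
    (Subgroup.orderOf_coe (O.isOrb.ex.s b * O.isOrb.ex.s c)).trans (O.orderOf_s b c _ (hM.1 b c).1 (hM.1 b c).2.1 (hM.1 b c).2.2)
  have := h b
  rwa [hM.2 π (fun b => Nat.pow_right_injective hq (by simpa only [hc] using (h b).card Z))
    (fun b c => by simpa only [h1] using (h b).orderOf Z hθ (h c)) b] at this

end Tw.Re

end StN

namespace RS
open StN StG StN.Tw
variable {R : RS D} {K : Type*} [Field K] (hR : R.Good)

/-- a product of a diagonal and a field automorphism -/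
noncomputable def sa (c : I D → Kˣ) (τ : K ≃+* K) : MulAut (D.group K) := diagAut hR (chOf c) * fieldAut hR τ

theorem sa_x (c : I D → Kˣ) (τ : K ≃+* K) (r : Φ D) (t : K) :
    sa hR c τ ((R.adj K).x r t) = (R.adj K).x r (R.cv' (chOf c) r * τ t) := by
  rw [sa, MulAut.mul_apply, fieldAut_x, diagAut_x]

theorem sa_WN (c : I D → Kˣ) (τ : K ≃+* K) (w : List (ℕ × K)) :
    sa hR c τ ((R.adj K).WN w) = (R.adj K).WN (w.map fun a => (a.1, R.chN (chOf c) a.1 * τ a.2)) :=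
  map_WN (sa hR c τ).toMonoidHom (g := fun r (t : K) => (R.chN (chOf c) r : K) * τ t) (fun r t => by simpa using sa_x hR c τ r t) w

theorem sa_U (c : I D → Kˣ) (τ : K ≃+* K) {X : Set (Φ D)} {g : D.group K} (hg : g ∈ (R.adj K).U X) : sa hR c τ g ∈ (R.adj K).U X :=
  (U_le.2 fun r hr t => by rw [Subgroup.mem_comap, MulEquiv.coe_toMonoidHom, sa_x]; exact x_mem hr _ :
    (R.adj K).U X ≤ ((R.adj K).U X).comap (sa hR c τ).toMonoidHom) hg

theorem sa_ox {K' : Type*} [Field K'] {l : List (I D)} {φ : I D → K' →+* K} {c : I D → Kˣ} {τ : K ≃+* K} {a : K'} {σ : K' → K'}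
    (h : ∀ i ∈ l, (c i : K) = φ i a ∧ ∀ t, τ (φ i t) = φ i (σ t)) (t : K') :
    sa hR c τ ((R.adj K).ox l φ t) = (R.adj K).ox l φ (a * σ t) := by
  rw [ox, sa_WN, ox, List.map_map]
  exact congrArg _ (List.map_congr_left fun j hj => by simp [h j hj])

theorem node_std {B : Type} {orb : I D → B} {Γ : Type*} [Group Γ] {ι : Γ →* D.group K} {b : B} {K' : Type*} [Field K']
    (P : (R.adj K).Node orb ι b K') {l : List (I D)} {φ : I D → K' →+* K} (p1 : ∀ t, ι (P.x t) = (R.adj K).ox l φ t) {α : MulAut Γ}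
    {a : K'} {σ : K' → K'} (a1 : ∀ t, α (P.x t) = P.x (a * σ t)) {c : I D → Kˣ} {τ : K ≃+* K}
    (h : ∀ i ∈ l, (c i : K) = φ i a ∧ ∀ t, τ (φ i t) = φ i (σ t)) {u : Γ} (hu : ι u ∈ (R.adj K).U (R.SubP (orb ⁻¹' {b}))) :
    ι (α u) = sa hR c τ (ι u) := by
  obtain ⟨t, rfl⟩ := (P.hx u).1 hu
  rw [a1, p1, p1, sa_ox hR h]

variable {Y : R.Sym} {T : (R.adj K).Tw Y} {π : ℕ → ℕ} {ε : ℕ → ℤ} {e : ℕ → ℕ} {θ : K →+* K} (A : T.Act π ε e θ) {q : ℕ}
  (hθ : ∀ t, θ t = t ^ q)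
include A hθ

theorem sa_σ {c : I D → Kˣ} (hc : T.ac c = c) (τ : K ≃+* K) (g : D.group K) : sa hR c τ (T.σ g) = T.σ (sa hR c τ g) := by
  have h1 : ∀ r, τ (T.γ r) = T.γ r := fun r => by simp [A.γ]
  have h2 : ∀ r t, τ (T.φ r t) = T.φ r (τ t) := fun r t => by simp [A.φ, hθ]
  refine DFunLike.congr_fun (hom_ext_sim (R.adj_gen K) (f := (sa hR c τ).toMonoidHom.comp T.σ)
    (g := T.σ.comp (sa hR c τ).toMonoidHom) (fun i t => ?_) fun i t => ?_) g <;>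
    simp only [MonoidHom.comp_apply, MulEquiv.coe_toMonoidHom, T.hσ, sa_x, h1, h2, Y.neg, Y.sim, cv'_neg, cv'_chOf_sim, T.hφ,
      Units.val_inv_eq_inv_val, T.ac_eq_iff.1 hc, map_mul, map_inv₀, mul_left_comm]

variable [Finite K] {B : Type} {orb : I D → B} {Γ : Type*} [Group Γ] {ι : Γ →* D.group K} (Z : T.Re orb ι) (hr : ι.range ≤ T.G1 orb)
include Z hr

theorem exists_std {c : I D → Kˣ} (hc : T.ac c = c) (τ : K ≃+* K) :
    ∃ α ∈ (R.adj K).A0 ι, ∀ g, ι (α g) = sa hR c τ (ι g) := by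
  have hF : ∀ g ∈ T.Fix, sa hR c τ g ∈ T.Fix := fun g hg => T.mem_Fix.2 (by rw [← sa_σ hR A hθ hc, T.mem_Fix.1 hg])
  obtain ⟨f, hf⟩ := exists_lift_hom Z.inj ((sa hR c τ).toMonoidHom.comp ι) fun g => Z.le (by
    have := hr ⟨g, rfl⟩
    rw [Z.nt.G1_eq] at this ⊢
    refine Subgroup.mem_comap.1 ((sup_le (fun u hu => ?_) (fun u hu => ?_) : _ ≤ Subgroup.comap (sa hR c τ).toMonoidHom _) this)
    exacts [Subgroup.mem_sup_left (Subgroup.mem_inf.2 ⟨sa_U hR c τ hu.1, hF u hu.2⟩),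
      Subgroup.mem_sup_right (Subgroup.mem_inf.2 ⟨sa_U hR c τ hu.1, hF u hu.2⟩)])
  haveI := Finite.of_injective ι Z.inj
  have hi : Function.Injective f := fun a b h => Z.inj ((sa hR c τ).injective ((hf a).symm.trans ((congrArg ι h).trans (hf b))))
  exact ⟨MulEquiv.ofBijective f (Finite.injective_iff_bijective.1 hi), mem_A0_of Z.inj (fun g hg => hf g ▸ sa_U hR c τ hg)
    fun g hg => hf g ▸ sa_U hR c τ hg, hf⟩

omit A hθ Z hr in
variable (T) in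
/-- a fixed element with prescribed simple coordinate -/
def Has (i : I D) (t : K) : Prop := ∃ w : List (ℕ × K), ((w.map Prod.fst).Nodup ∧ ∀ r ∈ w.map Prod.fst, r < D.nroots ∧ D.nroots ≤ 2 * r) ∧
  (R.adj K).WN w ∈ T.Fix ∧ ((R.sim i : ℕ), t) ∈ w

theorem card_out (h1 : ∀ b, ∃ i, orb i = b ∧ Has T i 1) (h2 : ∃ i, ∀ t, Has T i t)
    (h3 : ∀ α ∈ (R.adj K).A0 ι, ∃ c, T.ac c = c ∧ ∃ τ, ∀ b u, ι u ∈ (R.adj K).U (R.SubP (orb ⁻¹' {b})) → ι (α u) = sa hR c τ (ι u)) :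
    Nat.card (Out Γ) * Nat.card ↥((R.adj K).H ⊓ T.G1 orb) = Nat.card (T.ac.eqLocus (MonoidHom.id _)) * Nat.card (K ≃+* K) := by
  haveI := Finite.of_injective ι Z.inj
  rw [← le_antisymm hr Z.le, inf_comm, ← Subgroup.map_comap_eq, Subgroup.card_map_of_injective Z.inj, ← Z.card_A0, ← Nat.card_prod]
  choose f f1 f2 using fun a : T.ac.eqLocus (MonoidHom.id _) × (K ≃+* K) => exists_std hR A hθ Z hr a.1.2 a.2
  refine (Nat.card_congr (Equiv.ofBijective (fun a => (⟨f a, f1 a⟩ : (R.adj K).A0 ι)) ⟨fun a b h => ?_, fun α => ?_⟩)).symm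
  · have key : ∀ i t, Has T i t → a.1.1 i * a.2 t = b.1.1 i * b.2 t := fun i t ⟨w, w1, w2, w3⟩ => by
      obtain ⟨u, hu⟩ := Z.pre (Z.nt.U_le ⟨WN_mem fun r hr => (R.pos_iff_le r).2 (w1.2 r hr).2, w2⟩)
      have h4 := (f2 a u).symm.trans ((congrArg (fun α : (R.adj K).A0 ι => ι (α.1 u)) h).trans (f2 b u))
      rw [hu, sa_WN, sa_WN] at h4
      have := List.map_inj_left.1 (WN_inj_pos w1 (by simp) (by simp) h4) _ w3
      simpa using this
    have h5 : a.1.1 = b.1.1 := funext fun i => by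
      obtain ⟨j, hj, h⟩ := h1 (orb i)
      refine Z.nt.O.induction (p := fun i => a.1.1 i = b.1.1 i) (fun i h => Units.ext ?_) hj (Units.ext (by simpa using key j 1 h))
      rw [T.ac_eq_iff.1 a.1.2, T.ac_eq_iff.1 b.1.2, h]
    obtain ⟨i, h2⟩ := h2
    exact Prod.ext (Subtype.ext h5) (RingEquiv.ext fun t => by simpa [h5] using key i t (h2 t))
  · obtain ⟨c, hc, τ, h⟩ := h3 α α.2
    exact ⟨(⟨c, hc⟩, τ), Subtype.ext (Z.A0_ext hr (f1 _) α.2 fun b u hu => Z.inj ((f2 _ u).trans (h b u hu).symm))⟩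

end RS

open StN StG RS StN.Tw

theorem Γ_out {R : RS D} {K : Type*} [Field K] {Y : R.Sym} {T : (R.adj K).Tw Y} {i : I D} {t : K}
    {w : List (ℕ × K)} {X : Subgroup (D.group K)} (h : (R.adj K).WN w ∈ X ⊓ T.Fix) (h1 : (w.map Prod.fst).Nodup ∧
      ∀ r ∈ w.map Prod.fst, r < D.nroots ∧ D.nroots ≤ 2 * r) (h2 : ((R.sim i : ℕ), t) ∈ w) : Has T i t := ⟨w, h1, h.2, h2⟩

theorem fa1 {α : Type*} {p : α → Prop} {a : α} (h : p a) : ∀ x ∈ [a], p x := by simpa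
theorem fa2 {α : Type*} {p : α → Prop} {a b : α} (h : p a) (h' : p b) : ∀ x ∈ [a, b], p x := by simp [*]
theorem fa3 {α : Type*} {p : α → Prop} {a b c : α} (h : p a) (h' : p b) (h'' : p c) : ∀ x ∈ [a, b, c], p x := by simp [*]

theorem out3D4 {K : Type*} [Field K] [Fintype K] {q : ℕ} (hq : IsPrimePow q) (hK : Fintype.card K = q ^ 3) :
    Nat.card (Out (twistedD4 K q)) = Nat.card (K ≃+* K) := by
  obtain ⟨θ, hθ⟩ : ∃ θ : K →+* K, ∀ t, θ t = t ^ q := (exists_frob hq hK).elim fun θ h => ⟨θ, h⟩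
  have h3 : ∀ t, θ (θ (θ t)) = t := frob_iter hK hθ
  have A := act3D4' θ
  have Z := (nt3D4 A h3).re (eq3D4 hK hθ)
  have h1 := hq.one_lt
  have := card_out goodD4 A hθ Z (Γ_range (eq3D4 hK hθ)).le (fun b => ?_) ⟨(0 : Fin 4), fun t =>
    Γ_out ((mem3D4_3 A h3).1.2 ⟨t, rfl⟩) (by simp; decide) (.head _)⟩ fun α hα => ?_
  · replace this := this.trans (congrArg (· * _) (card_param _ (fun a b h => Prod.ext (Subtype.ext (congrFun h (1 : Fin 4)))
      (congrFun h (0 : Fin 4))) fun _ => ac3D4 A h3))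
    rw [card_H3D4 hq hK hθ, Nat.card_prod, (card_fix' h1.le hK hθ).2, Nat.card_units, Nat.card_eq_fintype_card (α := K), hK,
      show (q - 1) * (q ^ 3 - 1) = (q - 1) ^ 2 * (q ^ 2 + q + 1) by zify [h1.le, Nat.one_le_pow _ _ h1.le]; ring, mul_comm] at this
    exact Nat.eq_of_mul_eq_mul_left (by have : 0 < q - 1 := by omega
                                        positivity) this
  · fin_cases b
    exacts [⟨(1 : Fin 4), rfl, Γ_out ((mem3D4_1 A).1.2 ⟨⟨1, θ.map_one⟩, rfl⟩) (by simp; decide) (.head _)⟩,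
      ⟨(0 : Fin 4), rfl, Γ_out ((mem3D4_3 A h3).1.2 ⟨1, rfl⟩) (by simp; decide) (.head _)⟩]
  have hm := Z.maps_self h1 (cardP3D4 A h3 (card_fix' h1.le hK hθ).1 (Nat.card_eq_fintype_card.trans hK))
    (fun a b => if a = b then 1 else 6) ⟨by decide +kernel, by decide +kernel⟩ hα
  obtain ⟨P, p1, p2⟩ := Z.exists_node (b := 0) (K := θ.eqLocusField (RingHom.id K)) [(1 : Fin 4)] (fun _ => Subfield.subtype _)
    (by decide +kernel) (mem3D4_1 A)
  obtain ⟨Q, q1, q2⟩ := Z.exists_node (b := 1) [(0 : Fin 4), (2 : Fin 4), (3 : Fin 4)] ![RingHom.id K, RingHom.id K, θ, θ.comp θ]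
    (by decide +kernel) (mem3D4_3 A h3)
  obtain ⟨σ, c, a1, a2⟩ := P.aut' Z hα (hm 0) p2 (oc_mul _ _)
  obtain ⟨τ, d, b1, -⟩ := Q.aut' Z hα (hm 1) q2 (oc_mul _ _)
  have hc : ∀ t, τ (θ t) = θ (τ t) := fun t => by simp [hθ]
  have l2 := P.link' Z Q p2 q1 a2 b1 (Subfield.subtype _) fun s => by
    have hs : θ s.1 = s.1 := s.2
    refine fa3 ?_ ?_ ?_ <;> refine (mul_one _).trans ((_root_.zpow_neg_one _).trans ?_) <;> simp [hs]
  refine ⟨_, (ac3D4 A h3).2 ⟨(⟨Units.map (θ.eqLocusField (RingHom.id K)).subtype.toMonoidHom c, c.1.2⟩, d), rfl⟩, τ, fun b u hu => ?_⟩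
  fin_cases b
  exacts [node_std _ P p1 a1 (fa1 ⟨rfl, l2⟩) hu,
    node_std _ Q q1 b1 (fa3 ⟨rfl, fun _ => rfl⟩ ⟨rfl, hc⟩ ⟨rfl, fun t => (hc _).trans (congrArg θ (hc t))⟩) hu]

theorem out2E6 {K : Type*} [Field K] [Fintype K] {q : ℕ} (hq : IsPrimePow q) (hK : Fintype.card K = q ^ 2) :
    Nat.card (Out (twistedE6 K q)) = Nat.gcd 3 (q + 1) * Nat.card (K ≃+* K) := by
  obtain ⟨θ, hθ⟩ : ∃ θ : K →+* K, ∀ t, θ t = t ^ q := (exists_frob hq hK).elim fun θ h => ⟨θ, h⟩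
  have h3 : ∀ t, θ (θ t) = t := frob_iter hK hθ
  have A := act2E6' θ
  have Z := (nt2E6 A h3).re (eq2E6 hK hθ)
  have h1 := hq.one_lt
  have m0 := fun {g} => mem2E6_1 A (g := g) (.head _)
  have m1 := fun {g} => mem2E6_1 A (g := g) (.tail _ (.head _))
  have m2 := fun {g} => mem2E6_2 A h3 (g := g) (.head _)
  have m3 := fun {g} => mem2E6_2 A h3 (g := g) (.tail _ (.head _))
  have := card_out goodE6 A hθ Z (Γ_range (eq2E6 hK hθ)).le (fun b => ?_) ⟨(0 : Fin 6), fun t =>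
    Γ_out (m3.1.2 ⟨t, rfl⟩) (by simp; decide) (.head _)⟩ fun α hα => ?_
  · replace this := this.trans (congrArg (· * _) (card_param _ (fun a b h => Prod.ext (Prod.ext (Subtype.ext (congrFun h (1 : Fin 6)))
      (Subtype.ext (congrFun h (3 : Fin 6)))) (Prod.ext (congrFun h (2 : Fin 6)) (congrFun h (0 : Fin 6)))) fun _ => ac2E6 A h3))
    rw [Nat.card_prod, Nat.card_prod, Nat.card_prod,
      (card_fix' h1.le hK hθ).2, Nat.card_units, Nat.card_eq_fintype_card (α := K), hK,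
      show (q - 1) * (q - 1) * ((q ^ 2 - 1) * (q ^ 2 - 1)) = (q - 1) ^ 4 * (q + 1) ^ 2 by
        zify [h1.le, Nat.one_le_pow _ _ h1.le]; ring, ← card_H2E6 hq hK hθ] at this
    exact Nat.eq_of_mul_eq_mul_right Nat.card_pos (this.trans (mul_right_comm _ _ _))
  · fin_cases b
    exacts [⟨(1 : Fin 6), rfl, Γ_out (m0.1.2 ⟨⟨1, θ.map_one⟩, rfl⟩) (by simp; decide) (.head _)⟩,
      ⟨(3 : Fin 6), rfl, Γ_out (m1.1.2 ⟨⟨1, θ.map_one⟩, rfl⟩) (by simp; decide) (.head _)⟩,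
      ⟨(2 : Fin 6), rfl, Γ_out (m2.1.2 ⟨1, rfl⟩) (by simp; decide) (.head _)⟩,
      ⟨(0 : Fin 6), rfl, Γ_out (m3.1.2 ⟨1, rfl⟩) (by simp; decide) (.head _)⟩]
  have hm := Z.maps_self h1 (cardP2E6 A h3 (card_fix' h1.le hK hθ).1 (Nat.card_eq_fintype_card.trans hK))
    (fun a b => fld 0x1030202030104020204010302020301 8 255 (4 * a + b)) ⟨by decide +kernel, by decide +kernel⟩ hα
  obtain ⟨P0, p0, q0⟩ := Z.exists_node (b := 0) (K := θ.eqLocusField (RingHom.id K)) [(1 : Fin 6)] (fun _ => Subfield.subtype _)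
    (by decide +kernel) m0
  obtain ⟨P1, p1, q1⟩ := Z.exists_node (b := 1) (K := θ.eqLocusField (RingHom.id K)) [(3 : Fin 6)] (fun _ => Subfield.subtype _)
    (by decide +kernel) m1
  obtain ⟨P2, p2, q2⟩ := Z.exists_node (b := 2) [(2 : Fin 6), (4 : Fin 6)] ![θ, θ, RingHom.id K, θ, θ, θ] (by decide +kernel) m2
  obtain ⟨P3, p3, q3⟩ := Z.exists_node (b := 3) [(0 : Fin 6), (5 : Fin 6)] ![RingHom.id K, θ, θ, θ, θ, θ] (by decide +kernel) m3
  obtain ⟨σ0, c0, a0, b0⟩ := P0.aut' Z hα (hm 0) q0 (oc_mul _ _)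
  obtain ⟨σ1, c1, a1, b1⟩ := P1.aut' Z hα (hm 1) q1 (oc_mul _ _)
  obtain ⟨σ2, c2, a2, b2⟩ := P2.aut' Z hα (hm 2) q2 (oc_mul _ _)
  obtain ⟨τ, c3, a3, -⟩ := P3.aut' Z hα (hm 3) q3 (oc_mul _ _)
  have hc : ∀ t, τ (θ t) = θ (τ t) := fun t => by simp [hθ]
  have e2 : ∀ s, τ s = σ2 s := P2.link' Z P3 q2 p3 b2 a3 (RingHom.id K) fun s => fa2
    ((congrArg₂ (· * ·) (_root_.zpow_neg_one _) ((mul_one _).trans (zpow_zero _))).trans (mul_one _))
    ((congrArg₂ (· * ·) (zpow_zero _) ((mul_one _).trans (_root_.zpow_neg_one _))).trans ((one_mul _).trans (map_inv₀ θ s).symm))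
  have e1 := fun s => (e2 _).trans (P1.link' Z P2 q1 p2 b1 a2 (Subfield.subtype _) (fun s => by
    have hs : θ s.1 = s.1 := s.2
    refine fa2 ?_ ?_ <;> refine (mul_one _).trans ((_root_.zpow_neg_one _).trans ?_) <;> simp [hs]) s)
  have e0 := fun s => (e1 s).trans (congrArg _ (P0.link' Z P1 q0 p1 b0 a1 (RingHom.id _) (fun s =>
    fa1 ((mul_one _).trans ((_root_.zpow_neg_one _).trans (map_inv₀ _ s).symm))) s))
  refine ⟨_, (ac2E6 A h3).2 ⟨((⟨Units.map (θ.eqLocusField (RingHom.id K)).subtype.toMonoidHom c0, c0.1.2⟩,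
    ⟨Units.map (θ.eqLocusField (RingHom.id K)).subtype.toMonoidHom c1, c1.1.2⟩), c2, c3), rfl⟩, τ, fun b u hu => ?_⟩
  fin_cases b
  exacts [node_std _ P0 p0 a0 (fa1 ⟨rfl, e0⟩) hu, node_std _ P1 p1 a1 (fa1 ⟨rfl, e1⟩) hu,
    node_std _ P2 p2 a2 (fa2 ⟨rfl, e2⟩ ⟨rfl, fun t => (hc t).trans (congrArg θ (e2 t))⟩) hu,
    node_std _ P3 p3 a3 (fa2 ⟨rfl, fun _ => rfl⟩ ⟨rfl, hc⟩) hu]

end Cfsg.Agent.H5
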