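import Cfsg.Agent.H5.Ag8
import Cfsg.Agent.H5.AutT
import Cfsg.Agent.H5.Fold

/-! Three classes of subgroups `F₄(2)` in `²E₆(2)`. -/

set_option autoImplicit false
set_option maxRecDepth 100000

namespace Cfsg.Agent.H5

open Cfsg.Lie StG StN RS StN.Tw

variable {D : ChevalleyDatum}

theorem sq_inner {F G : Type*} [Group F] [Finite F] [Group G] (hO : Nat.card (Out F) = 2) {j : F →* G}
    (hj : Function.Injective j) (a : MulAut G) (g : G) (h : ∀ x, g * a (j x) * g⁻¹ ∈ j.range) :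
    ∃ m, ∀ x, m * j x * m⁻¹ = a (a (j x)) := by
  obtain ⟨f, hf⟩ := exists_lift_hom hj ((MulAut.conj g * a).toMonoidHom.comp j) h
  have hi : Function.Injective f := fun x y e => hj ((MulAut.conj g * a).injective ((hf x).symm.trans ((congrArg j e).trans (hf y))))
  let ψ : MulAut F := MulEquiv.ofBijective f (Finite.injective_iff_bijective.1 hi)
  obtain ⟨k, hk⟩ : ψ ^ 2 ∈ Inn F := (QuotientGroup.eq_one_iff _).1 (by rw [QuotientGroup.mk_pow, ← hO, pow_card_eq_one'])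
  refine ⟨(g * a g)⁻¹ * j k, fun x => ?_⟩
  have h1 : j (k * x * k⁻¹) = j (f (f x)) := congrArg (fun φ : MulAut F => j (φ x)) hk
  rw [hf, MonoidHom.comp_apply, hf] at h1
  simp only [map_mul, map_inv, MonoidHom.comp_apply, MulEquiv.coe_toMonoidHom, MulAut.mul_apply, MulAut.conj_apply] at h1
  calc _ = (g * a g)⁻¹ * (j k * j x * (j k)⁻¹) * (g * a g) := by group
    _ = _ := by rw [h1]; group

theorem StN.rigid {R : RS D} {K G : Type*} [Field K] [Group G] {S : StN R K G} (hgen : S.U Set.univ = ⊤) {a : G →* G}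
    {f : Φ D → K} (ha : ∀ r t, a (S.x r t) = S.x r (f r * t)) {m : G}
    (h : ∀ i, ∃ t ≠ 0, ∃ c ∈ S.U {r | R.Pos r ∧ r ≠ R.sim i}, m * (S.x (R.sim i) t * c) * m⁻¹ = a (S.x (R.sim i) t * c)) :
    ∃ d : I D → Kˣ, ∀ i, f (R.sim i) = ((∏ j, d j ^ R.car j (R.sim i) : Kˣ) : K) := by
  have aU : ∀ {A : Set (Φ D)} {u}, u ∈ S.U A → a u ∈ S.U A := fun {A u} hu =>
    (U_le (K := (S.U A).comap a)).2 (fun r hr t => by rw [Subgroup.mem_comap, ha]; exact x_mem hr _) hu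
  have hU : ∀ {i t c}, c ∈ S.U {r | R.Pos r ∧ r ≠ R.sim i} → S.x (R.sim i) t * c ∈ S.U {r | R.Pos r} := fun hc =>
    mul_mem (x_mem (R.pos_sim _) _) (U_mono (fun _ h => h.1) hc)
  have hm : m ∈ S.B := by
    obtain ⟨b, hb, m, hm, c, hc, rfl⟩ := StN.bruhat (hgen ▸ Subgroup.mem_top m)
    obtain ⟨w, hw⟩ := StN.exists_lift hm
    have h1 : R.Ideal {r | R.Pos r} := ⟨fun _ h => h, fun s hs r hr u h => h.pos hs hr⟩
    obtain rfl : w = 1 := eq_one_of_pos fun i => by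
      obtain ⟨t, ht, u, hu, h2⟩ := h i
      exact mem_of_conj h1.gi (ideal_ne_sim i).gi h1.gi (fun _ h h' => And.intro h h') (hU hu)
        (fun h3 => ht (x_sim_not_mem ((mul_mem_cancel_right hu).1 h3))) hb hc hm hw (h2 ▸ aU (hU hu))
    exact mul_mem (mul_mem hb (S.H_le_B (hw.mem_H hm))) hc
  obtain ⟨v, hv, k, hk, rfl⟩ := mem_B.1 hm
  obtain ⟨d, hd⟩ := exists_diag_hp hk
  refine ⟨d, fun i => ?_⟩
  rw [← cv'_tau, tau_apply]
  generalize (∏ i, chi (R.carf i) (d i)) = χ at hd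
  obtain ⟨t, ht, c, hc, h2⟩ := h i
  obtain ⟨x, hx, w, hw, rfl⟩ := exists_mul (L := R.lamf) (T₁ := {R.sim i}) (T₂ := {r | R.Pos r ∧ r ≠ R.sim i})
    closed_pos' (fun _ h => h) (by ext r; by_cases h : r = R.sim i <;> simp [h, R.pos_sim]) hv
  obtain ⟨s, rfl⟩ := mem_U_singleton.1 hx
  have hB : ∀ t, S.x (R.sim i) t ∈ S.B := fun t => S.U_le_B (x_mem (R.pos_sim i) t)
  have h3 := mul_mem (conj_mem_ideal (ideal_ne_sim i) (hB s) (mul_mem (mul_mem (conj_mem_ideal (ideal_ne_sim i)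
    (inv_mem (hB (R.cv' χ (R.sim i) * t))) hw) (hd.conj_mem hc)) (inv_mem hw))) (inv_mem (aU hc))
  have h4 : S.x (R.sim i) s * (S.x (R.sim i) (R.cv' χ (R.sim i) * t))⁻¹ =
      (S.x (R.sim i) (R.cv' χ (R.sim i) * t))⁻¹ * S.x (R.sim i) s := by rw [x_inv, S.r1, S.r1, add_comm]
  have h5 : S.x (R.sim i) (-(R.cv' χ (R.sim i) * t) + f (R.sim i) * t) ∈ S.U {r | R.Pos r ∧ r ≠ R.sim i} := by
    convert h3 using 1
    rw [← S.r1, ← x_inv, ← ha, ← mul_inv_cancel_right (a _) (a c), ← map_mul, ← h2, inv_inv]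
    simp only [← mul_assoc]
    rw [h4, ← hd.2]
    group
  exact mul_right_cancel₀ ht (by linear_combination x_sim_not_mem h5)

theorem three_F4 (hO : Nat.card (Out (chevF4.group (ZMod 2))) = 2) {K : Type*} [Field K] [Fintype K] (hK : Fintype.card K = 4) :
    ∃ H : Kˣ → Subgroup (twistedE6 K 2), (∀ i, Nonempty (H i ≃* chevF4.group (ZMod 2))) ∧
      ∀ i j, i ≠ j → ∀ g : twistedE6 K 2, (H i).map (MulAut.conj g).toMonoidHom ≠ H j := by
  have hK' : Fintype.card K = 2 ^ 2 := hK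
  obtain ⟨θ, hθ⟩ : ∃ θ : K →+* K, ∀ t, θ t = t ^ 2 := (exists_frob Nat.prime_two.isPrimePow hK').elim fun θ h => ⟨θ, h⟩
  have h3 : ∀ t, θ (θ t) = t := frob_iter hK' hθ
  have A := act2E6' θ
  have A₀ := act2E6' (RingHom.id (ZMod 2))
  have Z := (nt2E6 A h3).re (eq2E6 hK' hθ)
  have hr := Γ_range (eq2E6 hK' hθ)
  generalize Subgroup.inclusion (Γ_le (eq2E6 hK' hθ)) = ι at Z hr
  haveI : CharP K 2 := charP_of_card_eq_prime_pow hK'
  let φ : ZMod 2 →+* K := ZMod.castHom (dvd_refl 2) K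
  have hι := rsE6.bc_x φ
  have hσ := bc_σ (T₀ := tw2E6 (RingHom.id _)) (T := tw2E6 θ) hι (fun r => by simp [A.γ, A₀.γ]) (fun r t => by
    simp only [A.φ, A₀.φ, pow_one, RingHom.id_apply, hθ, ← map_pow, ZMod.pow_card]) (rsE6.adj_gen _)
  obtain ⟨e, -⟩ := equivF4 (ZMod 2)
  let j := (bc chevE6 φ).comp ((Subgroup.subtype _).comp e.toMonoidHom)
  have hj : Function.Injective j := (bc_inj φ).comp (Subtype.val_injective.comp e.injective)
  have hF : ∀ {X u}, u ∈ (rsE6.adj _).U X ⊓ (tw2E6 (RingHom.id _)).Fix → bc chevE6 φ u ∈ (rsE6.adj _).U X ⊓ (tw2E6 θ).Fix :=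
    fun hu => ⟨bc_U hι hu.1, (hσ _).trans (congrArg _ hu.2)⟩
  obtain ⟨e₀, he₀⟩ := exists_lift_hom Z.inj j fun x => hr ▸ (iSup_le fun b => sup_le
    (fun u hu => G1b_le _ _ b (Subgroup.mem_sup_left (hF hu))) (fun u hu => G1b_le _ _ b (Subgroup.mem_sup_right (hF hu))) :
      (tw2E6 (RingHom.id _)).G1 orb2E6.orb ≤ ((tw2E6 θ).G1 orb2E6.orb).comap (bc chevE6 φ)) (e x).2
  let C : Kˣ → I chevE6 → Kˣ := fun z => ![z, 1, 1, 1, 1, Units.map (θ : K →* K) z]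
  choose α h1 hα using fun z => exists_std goodE6 A hθ Z hr.le (c := C z)
    ((ac2E6 A h3).2 ⟨((⟨1, θ.map_one⟩, ⟨1, θ.map_one⟩), 1, z), by rw [map_one]⟩) (RingEquiv.refl K)
  refine ⟨fun z => ((α z).toMonoidHom.comp e₀).range, fun z => ⟨(MonoidHom.ofInjective ((α z).injective.comp fun x y h =>
    hj (by rw [← he₀, h, he₀]))).symm⟩, fun z z' hz g hg => hz ?_⟩
  let a := (sa goodE6 (C z') (RingEquiv.refl K))⁻¹ * sa goodE6 (C z) (RingEquiv.refl K)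
  have ha : ∀ r t, a ((rsE6.adj K).x r t) = (rsE6.adj K).x r (rsE6.cv' (chOf (C z)) r / rsE6.cv' (chOf (C z')) r * t) :=
    fun r t => (sa goodE6 (C z') (RingEquiv.refl K)).injective (by
      rw [MulAut.mul_apply, MulAut.apply_inv_self, sa_x, sa_x, RingEquiv.refl_apply, RingEquiv.refl_apply, ← mul_assoc,
        mul_div_cancel₀ _ (Units.ne_zero _)])
  haveI := Finite.of_injective e₀ fun x y h => hj (by rw [← he₀, h, he₀])
  obtain ⟨m, hm⟩ := sq_inner hO hj a ((sa goodE6 (C z') (RingEquiv.refl K))⁻¹ (ι g)) fun x => by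
    obtain ⟨y, hy⟩ : g * α z (e₀ x) * g⁻¹ ∈ ((α z').toMonoidHom.comp e₀).range := hg.le ⟨_, ⟨x, rfl⟩, rfl⟩
    refine ⟨y, (sa goodE6 (C z') (RingEquiv.refl K)).injective ?_⟩
    rw [← he₀, ← hα, ← he₀, show α z' (e₀ y) = _ from hy]
    simp [a, hα]
  obtain ⟨d, hd⟩ := rigid (rsE6.adj_gen K) (a := a.toMonoidHom.comp a.toMonoidHom) (m := m)
    (f := fun r => (rsE6.cv' (chOf (C z)) r / rsE6.cv' (chOf (C z')) r) ^ 2) (fun r t => by
      simp only [MonoidHom.comp_apply, MulEquiv.coe_toMonoidHom, ha, sq, mul_assoc]) fun i => by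
    have H₀ := nt2E6 A₀ fun _ => rfl
    obtain ⟨u, hu, h⟩ := H₀.nu' i
    have h4 := hm (e.symm ⟨u, H₀.U_le hu⟩)
    obtain ⟨x, hx, w, hw, rfl⟩ := exists_mul (L := rsE6.lamf) (T₁ := {rsE6.sim i}) (T₂ := {r | rsE6.Pos r ∧ r ≠ rsE6.sim i})
      closed_pos' (fun _ h => h) (by ext r; by_cases h : r = rsE6.sim i <;> simp [h, rsE6.pos_sim]) hu.1
    obtain ⟨s, rfl⟩ := mem_U_singleton.1 hx
    refine ⟨φ s, fun h0 => h ?_, _, bc_U hι hw, ?_⟩
    · rw [(map_eq_zero φ).1 h0, StG.x_zero, one_mul]; exact hw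
    · simpa [j, hι] using h4
  have h5 : ∏ i : Fin 6, (∏ j : Fin 6, d j ^ rsE6.car j (rsE6.sim i)) ^ (![4, 3, 5, 6, 4, 2] : Fin 6 → ℤ) i = d (0 : Fin 6) ^ (3 : ℤ) := by
    simp only [← Finset.prod_zpow, ← zpow_mul]
    rw [Finset.prod_comm]
    simp only [← zpow_sum', (by decide +kernel : ∀ j : Fin 6, ∑ i : Fin 6, rsE6.car j (rsE6.sim i) * (![4, 3, 5, 6, 4, 2] : Fin 6 → ℤ) i =
      if j = 0 then 3 else 0)]
    exact (Finset.prod_eq_single (0 : Fin 6) (fun j _ h => by rw [if_neg h, zpow_zero]) (by simp)).trans (by rw [if_pos rfl])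
  have h6 : ∀ y : Kˣ, y ^ 3 = 1 := fun y => by
    rw [show 3 = Nat.card Kˣ by rw [Nat.card_units, Nat.card_eq_fintype_card, hK], pow_card_eq_one']
  have h7 : ∀ i : Fin 6, ∏ j : Fin 6, d j ^ rsE6.car j (rsE6.sim i) = (C z i / C z' i) ^ 2 := fun i =>
    Units.ext ((hd i).symm.trans (by rw [cv'_chOf_sim (C z) i, cv'_chOf_sim (C z') i]; simp))
  have h8 : ∀ y : Kˣ, Units.map (θ : K →* K) y = y ^ 2 := fun y => Units.ext (hθ y)
  simp only [h7, Fin.prod_univ_six] at h5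
  simp only [C, h8] at h5
  have h9 : ((z / z') ^ 3) ^ 5 * (z / z') = d (0 : Fin 6) ^ 3 := by
    refine Eq.trans ?_ (h5.trans (zpow_natCast _ 3))
    simp [← div_pow, ← pow_mul, ← pow_succ, ← pow_add, zpow_ofNat]
  rwa [h6, h6, one_pow, one_mul, div_eq_one] at h9

end Cfsg.Agent.H5
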