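import Cfsg.Agent.H5.Hc1
import Cfsg.Agent.H5.Ssc

/-! Annihilating polynomials of the elements of `W(F₄)`. -/

set_option autoImplicit false

namespace Cfsg.Agent.H5

open Cfsg.Lie StG StN RS

noncomputable def frc (x : ℤ) (f : ℤ → Bool) : Bool :=
  Int.rec (fun n => Nat.rec (f (Int.ofNat 0)) (fun k _ => f (Int.ofNat k.succ)) n)
    (fun n => Nat.rec (f (Int.negSucc 0)) (fun k _ => f (Int.negSucc k.succ)) n) x

theorem frc_eq (x : ℤ) (f : ℤ → Bool) : frc x f = f x := by rcases x with (_ | _) | (_ | _) <;> rfl

noncomputable def frcL (l : List ℤ) : (List ℤ → Bool) → Bool :=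
  List.rec (fun k => k []) (fun x _ ih k => frc x fun y => ih fun l => k (y :: l)) l

theorem frcL_eq (l : List ℤ) (k : List ℤ → Bool) : frcL l k = k l := by
  induction l generalizing k with
  | nil => rfl
  | cons x l ih => exact (frc_eq x fun y => frcL l fun l => k (y :: l)).trans (ih _)

noncomputable def frcM (l : List (List ℤ)) : (List (List ℤ) → Bool) → Bool :=
  List.rec (fun k => k []) (fun x _ ih k => frcL x fun y => ih fun l => k (y :: l)) l

theorem frcM_eq (l : List (List ℤ)) (k : List (List ℤ) → Bool) : frcM l k = k l := by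
  induction l generalizing k with
  | nil => rfl
  | cons x l ih => exact (frcL_eq _ _).trans (ih _)

def ldot : List ℤ → List ℤ → ℤ
  | a :: l, b :: m => a * b + ldot l m
  | _, _ => 0

def lmm (M P : List (List ℤ)) : List (List ℤ) := P.map fun v => M.map (ldot v)

def fF4 : List (List ℤ) := [[1, 0, 0, 0, 1], [1, 0, -1, 0, 1], [-1, 0, 0, 0, 1], [-1, -1, 0, 1, 1], [-1, 1, 0, -1, 1]]

noncomputable def Cert.prN (C : Cert) (l r s : ℕ) : ℤ := sumLt l fun m => C.cv r m * C.A m s

def Cert.col4 (C : Cert) (a : ℕ) : List ℤ := [C.cv a 0, C.cv a 1, C.cv a 2, C.cv a 3]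

noncomputable def Cert.ann4 (C : Cert) (a b c d : ℕ) : Bool :=
  frcM ([0, 1, 2, 3].map fun j => [C.cv a j, C.cv b j, C.cv c j, C.cv d j]) fun M =>
    frcM [C.col4 a, C.col4 b, C.col4 c, C.col4 d] fun P1 => frcM (lmm M P1) fun P2 => frcM (lmm M P2) fun P3 =>
      frcM (lmm M P3) fun P4 => fF4.any fun f => allLt 4 fun i => allLt 4 fun j =>
        ibeq (ldot f [if i = j then 1 else 0, tb P1 i j, tb P2 i j, tb P3 i j, tb P4 i j]) 0

noncomputable def Cert.annF4 (C : Cert) : Bool :=
  allLt 48 fun a => allLt 48 fun b => !(ibeq (C.prN 4 a b) (-1) && ibeq (C.prN 4 b a) (-1)) || allLt 48 fun c =>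
    !(ibeq (C.prN 4 a c) 0 && ibeq (C.prN 4 b c) (-2) && ibeq (C.prN 4 c b) (-1)) || allLt 48 fun d =>
      !(ibeq (C.prN 4 a d) 0 && ibeq (C.prN 4 b d) 0 && ibeq (C.prN 4 c d) (-1) && ibeq (C.prN 4 d c) (-1)) || C.ann4 a b c d

theorem annF4_true : rsF4.toCert.annF4 = true := by decide +kernel

def pF4 (k : ℕ) (q : ℤ) : ℤ := ldot (fF4.getD k []) [1, q, q ^ 2, q ^ 3, q ^ 4]

def wF4 : List (List ℕ) := [[0, 1, 2, 1, 2, 3], [0, 1, 2, 3], [0, 1, 2, 1, 2], [0, 1, 3], [0, 1, 2]]

def mF4 : List (List (List ℤ)) := [[[-1, 1, 0, 0], [-2, 1, 0, 1], [-2, 2, -1, 2], [-2, 2, -1, 1]],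
  [[-1, 1, 0, 0], [-1, 0, 1, 0], [-2, 0, 1, 1], [-2, 0, 1, 0]], [[-1, 1, 0, 0], [-2, 1, 0, 1], [-2, 2, -1, 2], [0, 0, 0, 1]],
  [[-1, 1, 0, 0], [-1, 0, 1, 0], [0, 0, 1, 0], [0, 0, 1, -1]], [[-1, 1, 0, 0], [-1, 0, 1, 0], [-2, 0, 1, 1], [0, 0, 0, 1]]]

def rF4 : List ℕ := [7531890669613840791, 9829786262974273913, 9694166944907237528, 7396817735795640486, 7532437053862676871, 7388340492791486871, 9703190572160227223, 11991516154018834570, 7523413426609687176, 9693620560658401448, 9694713329156073608, 7378770481289661096, 7668056371929713256, 7397910504293312646, 7541460681115666566, 9829239878725437833, 11999993397022988185, 9685143317654247833, 7666963603432041096, 7379863249787333256, 11990423385521162410, 9828693494476601753, 7532983438111512951, 9837717121729591448, 9838809890227263608, 12143543573845342105, 9847833517480253303, 7686103626435692646, 12296663762169521800, 12009563408524813960, 9991383694302607223, 7676533614933866871, 9847287133231417223, 12135066330841188490, 12278616507663542410, 12008470640027141800, 12297756530667193960,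 9981813682800781448, 9982906451298453608, 12153113585347167880, 7685010857938020486, 9973336439796627833, 12288186519165368185, 12144089958094178185, 12279709276161214570, 9982360067049617528, 9846740748982581143, 12144636342343014265, 7540897602330924952, 9829784201673144967, 9703155388057560953, 5379167719875184806, 7532418298025642391, 7541425505601820807, 7676533623522687382, 11856405966208018538, 7667526415946508966, 7397310180104775816, 11992041987399780968, 7531890394754746536, 7532946201296538246, 7549904809907103368, 7685540831098865798, 11991514084128885113, 9694148180481382537, 9694676083752278392, 9702627484786665098, 9685668876176099976, 9703683291328456808, 7676005720251791527, 9829256298402249112, 9837735602707531673, 9838791409249323383, 9847270713554605944, 12000521291705063529, 9972843720628398248, 9990858135780755080, 9973899527170189958, 9981850928204576664, 9982378831475472519, 7685012927827969943, 11990986180857989258, 12126622202049751688, 12143580810660316810, 12144636617202108520, 7684485024557074088, 12279216831852079240,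 12009000596010346090, 7820121045748836518, 11999993388434167674, 12135101506355034249, 12144108713931212665, 14297359292081670250, 9973371623899294103, 9846742810283710089, 12135629409625930104]

def xF4 (k r m : ℕ) : ℤ := Int.subNatNat (fld (rF4.getD (48 * k + r) 0) 4 15 m) 8

theorem rF4_spec : (allLt 2 fun k => allLt 48 fun r => allLt 4 fun i => allLt 4 fun j => Cert.ibeq (2 * rsF4.c (rsF4.sp i) j)
    (sumLt 4 fun t => xF4 k r (4 * i + t) * rsF4.c ((rsF4.toCert.actL (wF4.getD k []))^[t] r) j)) = true := by
  decide +kernel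

end Cfsg.Agent.H5
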