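import Cfsg.Agent.H5.Inv

set_option autoImplicit false
set_option maxRecDepth 100000

namespace Cfsg.Agent.H5
open Cfsg.Lie StN StG RS StN.Tw

/-- certificate -/
def invBaseG2 : List (List ℕ × List (Bool × List ℕ × List ℕ)) :=
    [([], []), ([11], []), ([9], []), ([8, 10], [(true, [6], [8, 10, 11]), (true, [7], [8]), (false, [0], [9])])]

/-- certificate -/
def invTabG2 : List (List ℕ × ℕ × List ℕ) :=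
    [([], 3, []), ([0], 1, []), ([1], 2, []), ([0, 1, 0, 1, 0, 1], 0, [])]

theorem invChkG2 : rsG2.InvChk id id
    [0, 1, 0, 1, 0, 1]
    (invBaseG2.map Prod.fst) invTabG2 ∧ ∀ x ∈ invBaseG2, rsG2.InvL id (fun _ => 1) (fun _ => 1) x.1 ∧
      rsG2.Chain id (fun _ => 1) (fun _ => 1) ([] :: [[11], [9]]) x.2 x.1 := by decide +kernel

theorem invClsG2 {F : Type*} [Field F] [Finite F] [CharP F 2] : ∀ g, orderOf g = 2 →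
    ∃ l ∈ [[11], [9]], ∃ a, MonoidHom.id _ a = (rsG2.adj F).xl l ∧ IsConj g a :=
  fun _ => (rsG2.reAdj F).classify actId (fun _ => rfl) (fun _ => .inl rfl) invChkG2

/-- certificate -/
def invBaseF4 : List (List ℕ × List (Bool × List ℕ × List ℕ)) :=
    [([], []), ([47], []), ([44], []), ([39, 45], []), ([41, 47], [(true, [18], [47, 44])]), ([29, 42, 46], [(true,
    [19], [29, 44, 46]), (true, [24], [29, 44, 46, 47]), (true, [41], [29, 46]), (false, [2, 1, 0], [39, 45])]), ([32,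
    43, 45], [(true, [13], [40, 43, 45]), (true, [27], [40, 43, 44]), (true, [33], [40, 43]), (false, [1], [39,
    45])]), ([26, 31, 42, 46], [(true, [13], [31, 36, 42, 46]), (true, [27], [31, 36, 38, 42, 46]), (true, [33], [36,
    31, 46]), (false, [0], [29, 42, 46]), (true, [19], [29, 44, 46]), (true, [24], [29, 44, 46, 47]), (true, [41],
    [29, 46]), (false, [2, 1, 0], [39, 45])])]

/-- certificate -/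
def invTabF4 : List (List ℕ × ℕ × List ℕ) :=
    [([], 7, []), ([0], 5, [1, 0]), ([1], 5, []), ([0, 1, 0], 0, []), ([2], 6, [3, 2]), ([0, 2], 3, [3, 2]), ([1, 2,
    1, 2], 4, []), ([0, 1, 0, 2, 1, 0, 2, 1, 2], 1, []), ([3], 6, []), ([0, 3], 3, []), ([1, 3], 3, [0, 1]), ([0, 1,
    0, 3], 0, []), ([2, 3, 2], 0, []), ([0, 2, 3, 2], 0, []), ([1, 2, 1, 2, 3, 2, 1, 2, 3], 2, []), ([0, 1, 0, 2, 1,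
    0, 2, 1, 2, 3, 2, 1, 0, 2, 1, 2, 3, 2, 1, 0, 2, 1, 2, 3], 0, [])]

theorem invChkF4 : rsF4.InvChk id id
    [0, 1, 0, 2, 1, 0, 2, 1, 2, 3, 2, 1, 0, 2, 1, 2, 3, 2, 1, 0, 2, 1, 2, 3]
    (invBaseF4.map Prod.fst) invTabF4 ∧ ∀ x ∈ invBaseF4, rsF4.InvL id (fun _ => 1) (fun _ => 1) x.1 ∧
      rsF4.Chain id (fun _ => 1) (fun _ => 1) ([] :: [[47], [44], [47, 44], [39, 45]]) x.2 x.1 := by decide +kernel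

theorem invClsF4 {F : Type*} [Field F] [Finite F] [CharP F 2] : ∀ g, orderOf g = 2 →
    ∃ l ∈ [[47], [44], [47, 44], [39, 45]], ∃ a, MonoidHom.id _ a = (rsF4.adj F).xl l ∧ IsConj g a :=
  fun _ => (rsF4.reAdj F).classify actId (fun _ => rfl) (fun _ => .inl rfl) invChkF4

/-- certificate -/
def invBaseE6 : List (List ℕ × List (Bool × List ℕ × List ℕ)) :=
    [([], []), ([71], []), ([68, 66], []), ([55, 65, 67], []), ([46, 53, 65, 69], [(true, [11], [46, 47, 51, 53, 65,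
    69, 71]), (true, [27], [51, 53, 63, 65, 69, 71]), (true, [32], [53, 65, 69, 71]), (true, [47], [69, 65, 53]),
    (false, [0, 2, 0], [55, 65, 67])])]

/-- certificate -/
def invTabE6 : List (List ℕ × ℕ × List ℕ) :=
    [([], 4, []), ([0], 0, []), ([1], 3, [0, 2, 0]), ([0, 1], 0, []), ([2], 0, []), ([0, 2, 0], 0, []), ([1, 2], 0,
    []), ([0, 1, 2, 0], 0, []), ([3], 3, [1, 3, 0, 2, 0]), ([0, 3], 0, []), ([1, 3, 1], 0, []), ([0, 1, 3, 1], 0, []),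
    ([2, 3, 2], 0, []), ([0, 2, 0, 3, 2, 0], 0, []), ([1, 2, 3, 1, 2, 3], 0, []), ([0, 1, 2, 0, 3, 1, 2, 0, 3, 2], 0,
    []), ([4], 0, []), ([0, 4], 0, []), ([1, 4], 0, []), ([0, 1, 4], 0, []), ([2, 4], 0, []), ([0, 2, 0, 4], 0, []),
    ([1, 2, 4], 0, []), ([0, 1, 2, 0, 4], 0, []), ([3, 4, 3], 0, []), ([0, 3, 4, 3], 0, []), ([1, 3, 1, 4, 3, 1], 0,
    []), ([0, 1, 3, 1, 4, 3, 1], 0, []), ([2, 3, 2, 4, 3, 2], 2, [1, 3, 2]), ([0, 2, 0, 3, 2, 0, 4, 3, 2, 0], 0, []),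
    ([1, 2, 3, 1, 2, 3, 4, 3, 1, 2, 3, 4], 0, []), ([0, 1, 2, 0, 3, 1, 2, 0, 3, 2, 4, 3, 1, 2, 0, 3, 2, 4, 3, 1], 0,
    []), ([5], 0, []), ([0, 5], 0, []), ([1, 5], 0, []), ([0, 1, 5], 0, []), ([2, 5], 0, []), ([0, 2, 0, 5], 0, []),
    ([1, 2, 5], 0, []), ([0, 1, 2, 0, 5], 0, []), ([3, 5], 0, []), ([0, 3, 5], 0, []), ([1, 3, 1, 5], 0, []), ([0, 1,
    3, 1, 5], 0, []), ([2, 3, 2, 5], 0, []), ([0, 2, 0, 3, 2, 0, 5], 0, []), ([1, 2, 3, 1, 2, 3, 5], 0, []), ([0, 1,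
    2, 0, 3, 1, 2, 0, 3, 2, 5], 0, []), ([4, 5, 4], 0, []), ([0, 4, 5, 4], 0, []), ([1, 4, 5, 4], 0, []), ([0, 1, 4,
    5, 4], 0, []), ([2, 4, 5, 4], 0, []), ([0, 2, 0, 4, 5, 4], 0, []), ([1, 2, 4, 5, 4], 0, []), ([0, 1, 2, 0, 4, 5,
    4], 0, []), ([3, 4, 3, 5, 4, 3], 0, []), ([0, 3, 4, 3, 5, 4, 3], 0, []), ([1, 3, 1, 4, 3, 1, 5, 4, 3, 1], 0, []),
    ([0, 1, 3, 1, 4, 3, 1, 5, 4, 3, 1], 0, []), ([2, 3, 2, 4, 3, 2, 5, 4, 3, 2], 0, []), ([0, 2, 0, 3, 2, 0, 4, 3, 2,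
    0, 5, 4, 3, 2, 0], 1, []), ([1, 2, 3, 1, 2, 3, 4, 3, 1, 2, 3, 4, 5, 4, 3, 1, 2, 3, 4, 5], 0, []), ([0, 1, 2, 0, 3,
    1, 2, 0, 3, 2, 4, 3, 1, 2, 0, 3, 2, 4, 3, 1, 5, 4, 3, 1, 2, 0, 3, 2, 4, 3, 1, 5, 4, 3, 2, 0], 0, [])]

theorem invChkE6 : rsE6.InvChk id id
    [0, 1, 2, 0, 3, 1, 2, 0, 3, 2, 4, 3, 1, 2, 0, 3, 2, 4, 3, 1, 5, 4, 3, 1, 2, 0, 3, 2, 4, 3, 1, 5, 4, 3, 2, 0]
    (invBaseE6.map Prod.fst) invTabE6 ∧ ∀ x ∈ invBaseE6, rsE6.InvL id (fun _ => 1) (fun _ => 1) x.1 ∧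
      rsE6.Chain id (fun _ => 1) (fun _ => 1) ([] :: [[71], [68, 66], [55, 65, 67]]) x.2 x.1 := by decide +kernel

theorem invClsE6 {F : Type*} [Field F] [Finite F] [CharP F 2] : ∀ g, orderOf g = 2 →
    ∃ l ∈ [[71], [68, 66], [55, 65, 67]], ∃ a, MonoidHom.id _ a = (rsE6.adj F).xl l ∧ IsConj g a :=
  fun _ => (rsE6.reAdj F).classify actId (fun _ => rfl) (fun _ => .inl rfl) invChkE6

/-- certificate -/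
def invBaseE7 : List (List ℕ × List (Bool × List ℕ × List ℕ)) :=
    [([], []), ([125], []), ([118, 121], []), ([92, 107, 111], []), ([114, 116, 119], []), ([92, 107, 111, 119], []),
    ([93, 112, 116, 121], [(true, [36], [93, 96, 101, 112, 116, 121, 125]), (true, [40], [101, 105, 112, 116, 121]),
    (true, [50], [112, 116, 121, 125]), (true, [96], [121, 116, 112]), (false, [1, 3, 1], [114, 116, 119])]), ([92,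
    98, 101, 115, 120], [(true, [38], [92, 97, 98, 101, 102, 115, 120, 125]), (true, [47], [92, 101, 102, 115, 116,
    120, 125]), (true, [63], [92, 101, 115, 120, 125]), (true, [97], [92, 115, 101, 120]), (false, [2, 3, 6], [92,
    107, 111, 119])]), ([89, 90, 104, 107, 109, 114], [(true, [32], [88, 89, 90, 91, 104, 107, 109, 114, 123]), (true,
    [59], [90, 91, 104, 105, 107, 109, 114, 123]), (true, [63], [90, 104, 107, 109, 114, 123]), (true, [88], [90, 104,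
    109, 107, 114]), (false, [3, 1, 2, 3, 5, 6], [92, 98, 101, 115, 120]), (true, [38], [92, 97, 98, 101, 102, 115,
    120, 125]), (true, [47], [92, 101, 102, 115, 116, 120, 125]), (true, [63], [92, 101, 115, 120, 125]), (true, [97],
    [92, 115, 101, 120]), (false, [2, 3, 6], [92, 107, 111, 119])]), ([78, 89, 90, 104, 107, 109, 114], [(true, [28],
    [78, 79, 86, 89, 90, 104, 107, 109, 114, 121]), (true, [48], [86, 89, 90, 101, 104, 107, 109, 114, 121]), (true,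
    [56], [89, 90, 104, 107, 109, 114, 121]), (true, [79], [89, 90, 104, 107, 109, 114]), (false, [], [89, 90, 104,
    107, 109, 114]), (true, [32], [88, 89, 90, 91, 104, 107, 109, 114, 123]), (true, [59], [90, 91, 104, 105, 107,
    109, 114, 123]), (true, [63], [90, 104, 107, 109, 114, 123]), (true, [88], [90, 104, 109, 107, 114]), (false, [3,
    1, 2, 3, 5, 6], [92, 98, 101, 115, 120]), (true, [38], [92, 97, 98, 101, 102, 115, 120, 125]), (true, [47], [92,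
    101, 102, 115, 116, 120, 125]), (true, [63], [92, 101, 115, 120, 125]), (true, [97], [92, 115, 101, 120]), (false,
    [2, 3, 6], [92, 107, 111, 119])])]

/-- certificate -/
def invTabE7 : List (List ℕ × ℕ × List ℕ) :=
    [([], 9, []), ([0], 8, [2, 3, 0, 2, 1, 3]), ([1], 8, []), ([0, 1], 7, [3, 4, 1, 3, 2, 0]), ([2], 8, [3, 2, 1, 3]),
    ([0, 2, 0], 0, []), ([1, 2], 7, [0, 2, 3, 4, 1, 3, 2, 0]), ([0, 1, 2, 0], 0, []), ([3], 8, [1, 3]), ([0, 3], 7,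
    [4, 3, 2, 0]), ([1, 3, 1], 0, []), ([0, 1, 3, 1], 0, []), ([2, 3, 2], 0, []), ([0, 2, 0, 3, 2, 0], 0, []), ([1, 2,
    3, 1, 2, 3], 0, []), ([0, 1, 2, 0, 3, 1, 2, 0, 3, 2], 0, []), ([4], 8, [3, 4, 1, 3]), ([0, 4], 7, [2, 0]), ([1,
    4], 7, [5, 4, 3, 2, 1, 3, 4, 5]), ([0, 1, 4], 5, [5, 3, 4, 3, 2, 1, 3, 0, 2, 0]), ([2, 4], 7, []), ([0, 2, 0, 4],
    0, []), ([1, 2, 4], 5, [5, 0, 2, 3, 4, 3, 2, 1, 3, 0, 2, 0]), ([0, 1, 2, 0, 4], 0, []), ([3, 4, 3], 0, []), ([0,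
    3, 4, 3], 0, []), ([1, 3, 1, 4, 3, 1], 0, []), ([0, 1, 3, 1, 4, 3, 1], 0, []), ([2, 3, 2, 4, 3, 2], 0, []), ([0,
    2, 0, 3, 2, 0, 4, 3, 2, 0], 0, []), ([1, 2, 3, 1, 2, 3, 4, 3, 1, 2, 3, 4], 3, [5, 0, 2, 3, 4, 3, 2, 1, 3, 0, 2,
    0]), ([0, 1, 2, 0, 3, 1, 2, 0, 3, 2, 4, 3, 1, 2, 0, 3, 2, 4, 3, 1], 0, []), ([5], 8, [4, 5, 3, 4, 1, 3]), ([0, 5],
    7, [4, 5, 2, 0]), ([1, 5], 7, [3, 2, 1, 3, 4, 5]), ([0, 1, 5], 5, [3, 4, 2, 1, 3, 0, 2, 0]), ([2, 5], 7, [4, 5]),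
    ([0, 2, 0, 5], 0, []), ([1, 2, 5], 5, [0, 2, 3, 4, 2, 1, 3, 0, 2, 0]), ([0, 1, 2, 0, 5], 0, []), ([3, 5], 7, [2,
    3, 4, 5]), ([0, 3, 5], 5, [4, 2, 3, 0, 2, 0]), ([1, 3, 1, 5], 0, []), ([0, 1, 3, 1, 5], 0, []), ([2, 3, 2, 5], 0,
    []), ([0, 2, 0, 3, 2, 0, 5], 0, []), ([1, 2, 3, 1, 2, 3, 5], 0, []), ([0, 1, 2, 0, 3, 1, 2, 0, 3, 2, 5], 0, []),
    ([4, 5, 4], 0, []), ([0, 4, 5, 4], 0, []), ([1, 4, 5, 4], 0, []), ([0, 1, 4, 5, 4], 0, []), ([2, 4, 5, 4], 0, []),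
    ([0, 2, 0, 4, 5, 4], 0, []), ([1, 2, 4, 5, 4], 0, []), ([0, 1, 2, 0, 4, 5, 4], 0, []), ([3, 4, 3, 5, 4, 3], 0,
    []), ([0, 3, 4, 3, 5, 4, 3], 0, []), ([1, 3, 1, 4, 3, 1, 5, 4, 3, 1], 0, []), ([0, 1, 3, 1, 4, 3, 1, 5, 4, 3, 1],
    0, []), ([2, 3, 2, 4, 3, 2, 5, 4, 3, 2], 0, []), ([0, 2, 0, 3, 2, 0, 4, 3, 2, 0, 5, 4, 3, 2, 0], 0, []), ([1, 2,
    3, 1, 2, 3, 4, 3, 1, 2, 3, 4, 5, 4, 3, 1, 2, 3, 4, 5], 0, []), ([0, 1, 2, 0, 3, 1, 2, 0, 3, 2, 4, 3, 1, 2, 0, 3,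
    2, 4, 3, 1, 5, 4, 3, 1, 2, 0, 3, 2, 4, 3, 1, 5, 4, 3, 2, 0], 0, []), ([6], 8, [5, 6, 4, 5, 3, 4, 1, 3]), ([0, 6],
    7, [5, 6, 4, 5, 2, 0]), ([1, 6], 7, [5, 6, 3, 2, 1, 3, 4, 5]), ([0, 1, 6], 5, [5, 6, 3, 4, 2, 1, 3, 0, 2, 0]),
    ([2, 6], 7, [5, 6, 4, 5]), ([0, 2, 0, 6], 0, []), ([1, 2, 6], 5, [5, 6, 0, 2, 3, 4, 2, 1, 3, 0, 2, 0]), ([0, 1, 2,
    0, 6], 0, []), ([3, 6], 7, [5, 6, 2, 3, 4, 5]), ([0, 3, 6], 5, [5, 6, 4, 2, 3, 0, 2, 0]), ([1, 3, 1, 6], 0, []),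
    ([0, 1, 3, 1, 6], 0, []), ([2, 3, 2, 6], 0, []), ([0, 2, 0, 3, 2, 0, 6], 0, []), ([1, 2, 3, 1, 2, 3, 6], 0, []),
    ([0, 1, 2, 0, 3, 1, 2, 0, 3, 2, 6], 0, []), ([4, 6], 7, [3, 4, 5, 6, 2, 3, 4, 5]), ([0, 4, 6], 5, [3, 4, 5, 6, 4,
    2, 3, 0, 2, 0]), ([1, 4, 6], 6, [5, 3, 4]), ([0, 1, 4, 6], 4, [5, 3, 4, 1, 3, 1]), ([2, 4, 6], 5, [0, 2, 3, 4, 5,
    6, 4, 2, 3, 0, 2, 0]), ([0, 2, 0, 4, 6], 0, []), ([1, 2, 4, 6], 4, [5, 0, 2, 3, 4, 1, 3, 1]), ([0, 1, 2, 0, 4, 6],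
    0, []), ([3, 4, 3, 6], 0, []), ([0, 3, 4, 3, 6], 0, []), ([1, 3, 1, 4, 3, 1, 6], 0, []), ([0, 1, 3, 1, 4, 3, 1,
    6], 0, []), ([2, 3, 2, 4, 3, 2, 6], 0, []), ([0, 2, 0, 3, 2, 0, 4, 3, 2, 0, 6], 0, []), ([1, 2, 3, 1, 2, 3, 4, 3,
    1, 2, 3, 4, 6], 2, [0, 2, 3, 1]), ([0, 1, 2, 0, 3, 1, 2, 0, 3, 2, 4, 3, 1, 2, 0, 3, 2, 4, 3, 1, 6], 0, []), ([5,
    6, 5], 0, []), ([0, 5, 6, 5], 0, []), ([1, 5, 6, 5], 0, []), ([0, 1, 5, 6, 5], 0, []), ([2, 5, 6, 5], 0, []), ([0,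
    2, 0, 5, 6, 5], 0, []), ([1, 2, 5, 6, 5], 0, []), ([0, 1, 2, 0, 5, 6, 5], 0, []), ([3, 5, 6, 5], 0, []), ([0, 3,
    5, 6, 5], 0, []), ([1, 3, 1, 5, 6, 5], 0, []), ([0, 1, 3, 1, 5, 6, 5], 0, []), ([2, 3, 2, 5, 6, 5], 0, []), ([0,
    2, 0, 3, 2, 0, 5, 6, 5], 0, []), ([1, 2, 3, 1, 2, 3, 5, 6, 5], 0, []), ([0, 1, 2, 0, 3, 1, 2, 0, 3, 2, 5, 6, 5],
    0, []), ([4, 5, 4, 6, 5, 4], 0, []), ([0, 4, 5, 4, 6, 5, 4], 0, []), ([1, 4, 5, 4, 6, 5, 4], 0, []), ([0, 1, 4, 5,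
    4, 6, 5, 4], 0, []), ([2, 4, 5, 4, 6, 5, 4], 0, []), ([0, 2, 0, 4, 5, 4, 6, 5, 4], 0, []), ([1, 2, 4, 5, 4, 6, 5,
    4], 0, []), ([0, 1, 2, 0, 4, 5, 4, 6, 5, 4], 0, []), ([3, 4, 3, 5, 4, 3, 6, 5, 4, 3], 0, []), ([0, 3, 4, 3, 5, 4,
    3, 6, 5, 4, 3], 0, []), ([1, 3, 1, 4, 3, 1, 5, 4, 3, 1, 6, 5, 4, 3, 1], 0, []), ([0, 1, 3, 1, 4, 3, 1, 5, 4, 3, 1,
    6, 5, 4, 3, 1], 0, []), ([2, 3, 2, 4, 3, 2, 5, 4, 3, 2, 6, 5, 4, 3, 2], 0, []), ([0, 2, 0, 3, 2, 0, 4, 3, 2, 0, 5,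
    4, 3, 2, 0, 6, 5, 4, 3, 2, 0], 0, []), ([1, 2, 3, 1, 2, 3, 4, 3, 1, 2, 3, 4, 5, 4, 3, 1, 2, 3, 4, 5, 6, 5, 4, 3,
    1, 2, 3, 4, 5, 6], 1, []), ([0, 1, 2, 0, 3, 1, 2, 0, 3, 2, 4, 3, 1, 2, 0, 3, 2, 4, 3, 1, 5, 4, 3, 1, 2, 0, 3, 2,
    4, 3, 1, 5, 4, 3, 2, 0, 6, 5, 4, 3, 1, 2, 0, 3, 2, 4, 3, 1, 5, 4, 3, 2, 0, 6, 5, 4, 3, 1, 2, 3, 4, 5, 6], 0, [])]

theorem invChkE7 : rsE7.InvChk id id
    [0, 1, 2, 0, 3, 1, 2, 0, 3, 2, 4, 3, 1, 2, 0, 3, 2, 4, 3, 1, 5, 4, 3, 1, 2, 0, 3, 2, 4, 3, 1, 5, 4, 3, 2, 0, 6, 5,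
    4, 3, 1, 2, 0, 3, 2, 4, 3, 1, 5, 4, 3, 2, 0, 6, 5, 4, 3, 1, 2, 3, 4, 5, 6]
    (invBaseE7.map Prod.fst) invTabE7 ∧ ∀ x ∈ invBaseE7, rsE7.InvL id (fun _ => 1) (fun _ => 1) x.1 ∧
      rsE7.Chain id (fun _ => 1) (fun _ => 1) ([] :: [[125], [118, 121], [114, 116, 119], [92, 107, 111], [92, 107, 111, 119]]) x.2 x.1 := by decide +kernel

theorem invClsE7 {F : Type*} [Field F] [Finite F] [CharP F 2] : ∀ g, orderOf g = 2 →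
    ∃ l ∈ [[125], [118, 121], [114, 116, 119], [92, 107, 111], [92, 107, 111, 119]], ∃ a, MonoidHom.id _ a = (rsE7.adj F).xl l ∧ IsConj g a :=
  fun _ => (rsE7.reAdj F).classify actId (fun _ => rfl) (fun _ => .inl rfl) invChkE7

/-- certificate -/
def invBaseE8 : List (List ℕ × List (Bool × List ℕ × List ℕ)) :=
    [([], []), ([239], []), ([232, 233], []), ([228, 222, 218], []), ([198, 202, 209, 211], [(true, [98], [198, 199,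
    201, 202, 209, 211, 239]), (true, [113], [201, 202, 208, 209, 211, 239]), (true, [118], [202, 209, 211, 239]),
    (true, [199], [211, 209, 202]), (false, [6, 5, 4, 3, 1, 2, 0, 3, 2, 4, 3, 5], [228, 222, 218])]), ([226, 220, 213,
    216], []), ([198, 202, 209, 211, 226], [(true, [98], [198, 199, 201, 202, 209, 211, 226, 239]), (true, [113],
    [201, 202, 208, 209, 211, 226, 239]), (true, [118], [202, 209, 211, 226, 239]), (true, [199], [226, 211, 202,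
    209]), (false, [1, 3, 2, 4, 3, 5], [226, 220, 213, 216])]), ([192, 197, 202, 209, 210, 215], [(true, [96], [191,
    192, 197, 198, 202, 209, 210, 215, 237]), (true, [109], [197, 198, 202, 209, 210, 211, 215, 237]), (true, [120],
    [197, 202, 209, 210, 215, 237]), (true, [191], [197, 202, 209, 210, 215]), (false, [0, 2, 7], [198, 202, 209, 211,
    226]), (true, [98], [198, 199, 201, 202, 209, 211, 226, 239]), (true, [113], [201, 202, 208, 209, 211, 226, 239]),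
    (true, [118], [202, 209, 211, 226, 239]), (true, [199], [226, 211, 202, 209]), (false, [1, 3, 2, 4, 3, 5], [226,
    220, 213, 216])]), ([184, 192, 197, 202, 209, 210, 215], [(true, [106], [184, 185, 190, 192, 197, 202, 209, 210,
    215, 232]), (true, [110], [190, 192, 195, 197, 202, 209, 210, 215, 232]), (true, [116], [192, 197, 202, 209, 210,
    215, 232]), (true, [185], [192, 197, 202, 209, 210, 215]), (false, [], [192, 197, 202, 209, 210, 215]), (true,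
    [96], [191, 192, 197, 198, 202, 209, 210, 215, 237]), (true, [109], [197, 198, 202, 209, 210, 211, 215, 237]),
    (true, [120], [197, 202, 209, 210, 215, 237]), (true, [191], [197, 202, 209, 210, 215]), (false, [0, 2, 7], [198,
    202, 209, 211, 226]), (true, [98], [198, 199, 201, 202, 209, 211, 226, 239]), (true, [113], [201, 202, 208, 209,
    211, 226, 239]), (true, [118], [202, 209, 211, 226, 239]), (true, [199], [226, 211, 202, 209]), (false, [1, 3, 2,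
    4, 3, 5], [226, 220, 213, 216])]), ([162, 184, 192, 199, 200, 207, 212, 215], [(true, [79], [162, 163, 174, 184,
    192, 199, 200, 207, 212, 215, 227]), (true, [87], [174, 182, 184, 192, 199, 200, 207, 212, 215]), (true, [104],
    [184, 192, 199, 200, 207, 212, 215, 227]), (true, [163], [184, 192, 207, 212, 199, 200, 215]), (false, [1], [184,
    192, 197, 202, 209, 210, 215]), (true, [106], [184, 185, 190, 192, 197, 202, 209, 210, 215, 232]), (true, [110],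
    [190, 192, 195, 197, 202, 209, 210, 215, 232]), (true, [116], [192, 197, 202, 209, 210, 215, 232]), (true, [185],
    [192, 197, 202, 209, 210, 215]), (false, [], [192, 197, 202, 209, 210, 215]), (true, [96], [191, 192, 197, 198,
    202, 209, 210, 215, 237]), (true, [109], [197, 198, 202, 209, 210, 211, 215, 237]), (true, [120], [197, 202, 209,
    210, 215, 237]), (true, [191], [197, 202, 209, 210, 215]), (false, [0, 2, 7], [198, 202, 209, 211, 226]), (true,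
    [98], [198, 199, 201, 202, 209, 211, 226, 239]), (true, [113], [201, 202, 208, 209, 211, 226, 239]), (true, [118],
    [202, 209, 211, 226, 239]), (true, [199], [226, 211, 202, 209]), (false, [1, 3, 2, 4, 3, 5], [226, 220, 213,
    216])])]

/-- certificate -/
def invTabE8 : List (List ℕ × ℕ × List ℕ) :=
    [([], 9, []), ([0], 8, []), ([1], 8, [3, 2, 1, 3, 0, 2]), ([0, 1], 7, [3, 4, 5, 1, 3, 4, 2, 3, 0, 2, 1, 3, 4, 5,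
    3, 2, 1, 3, 0, 2]), ([2], 8, [0, 2]), ([0, 2, 0], 0, []), ([1, 2], 7, [0, 2, 3, 4, 5, 1, 3, 4, 2, 3, 0, 2, 1, 3,
    4, 5, 3, 2, 1, 3, 0, 2]), ([0, 1, 2, 0], 0, []), ([3], 8, [2, 3, 0, 2]), ([0, 3], 7, [4, 5, 3, 4, 2, 3, 0, 2, 1,
    3, 4, 5, 3, 2, 1, 3, 0, 2]), ([1, 3, 1], 0, []), ([0, 1, 3, 1], 0, []), ([2, 3, 2], 0, []), ([0, 2, 0, 3, 2, 0],
    0, []), ([1, 2, 3, 1, 2, 3], 0, []), ([0, 1, 2, 0, 3, 1, 2, 0, 3, 2], 0, []), ([4], 8, [3, 4, 2, 3, 0, 2]), ([0,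
    4], 7, [5, 4, 2, 3, 0, 2, 1, 3, 4, 5, 3, 2, 1, 3, 0, 2]), ([1, 4], 7, [3, 2, 1, 3, 0, 2]), ([0, 1, 4], 6, [5, 6,
    3, 4, 5, 1, 3, 4, 2, 3, 0, 2, 1, 3, 4, 5, 2, 3, 0, 2, 1, 3]), ([2, 4], 7, [5, 4, 3, 2, 1, 3, 4, 5, 3, 2, 1, 3, 0,
    2]), ([0, 2, 0, 4], 0, []), ([1, 2, 4], 6, [5, 6, 0, 2, 3, 4, 5, 1, 3, 4, 2, 3, 0, 2, 1, 3, 4, 5, 2, 3, 0, 2, 1,
    3]), ([0, 1, 2, 0, 4], 0, []), ([3, 4, 3], 0, []), ([0, 3, 4, 3], 0, []), ([1, 3, 1, 4, 3, 1], 0, []), ([0, 1, 3,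
    1, 4, 3, 1], 0, []), ([2, 3, 2, 4, 3, 2], 0, []), ([0, 2, 0, 3, 2, 0, 4, 3, 2, 0], 0, []), ([1, 2, 3, 1, 2, 3, 4,
    3, 1, 2, 3, 4], 4, [5, 6, 0, 2, 3, 4, 5, 1, 3, 4, 2, 3, 0, 2, 1, 3, 4, 5, 2, 3, 0, 2, 1, 3]), ([0, 1, 2, 0, 3, 1,
    2, 0, 3, 2, 4, 3, 1, 2, 0, 3, 2, 4, 3, 1], 0, []), ([5], 8, [4, 5, 3, 4, 2, 3, 0, 2]), ([0, 5], 7, [2, 3, 0, 2, 1,
    3, 4, 5, 3, 2, 1, 3, 0, 2]), ([1, 5], 7, [4, 5, 3, 2, 1, 3, 0, 2]), ([0, 1, 5], 6, [3, 4, 5, 6, 5, 4, 2, 3, 0, 2,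
    1, 3, 4, 5, 2, 3, 0, 2, 1, 3]), ([2, 5], 7, [3, 2, 1, 3, 4, 5, 3, 2, 1, 3, 0, 2]), ([0, 2, 0, 5], 0, []), ([1, 2,
    5], 6, [0, 2, 3, 4, 5, 6, 5, 4, 2, 3, 0, 2, 1, 3, 4, 5, 2, 3, 0, 2, 1, 3]), ([0, 1, 2, 0, 5], 0, []), ([3, 5], 7,
    [1, 3, 4, 5, 3, 2, 1, 3, 0, 2]), ([0, 3, 5], 6, [6, 4, 5, 3, 4, 2, 3, 0, 2, 1, 3, 4, 5, 3, 0, 2, 1, 3]), ([1, 3,
    1, 5], 0, []), ([0, 1, 3, 1, 5], 0, []), ([2, 3, 2, 5], 0, []), ([0, 2, 0, 3, 2, 0, 5], 0, []), ([1, 2, 3, 1, 2,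
    3, 5], 0, []), ([0, 1, 2, 0, 3, 1, 2, 0, 3, 2, 5], 0, []), ([4, 5, 4], 0, []), ([0, 4, 5, 4], 0, []), ([1, 4, 5,
    4], 0, []), ([0, 1, 4, 5, 4], 0, []), ([2, 4, 5, 4], 0, []), ([0, 2, 0, 4, 5, 4], 0, []), ([1, 2, 4, 5, 4], 0,
    []), ([0, 1, 2, 0, 4, 5, 4], 0, []), ([3, 4, 3, 5, 4, 3], 0, []), ([0, 3, 4, 3, 5, 4, 3], 0, []), ([1, 3, 1, 4, 3,
    1, 5, 4, 3, 1], 0, []), ([0, 1, 3, 1, 4, 3, 1, 5, 4, 3, 1], 0, []), ([2, 3, 2, 4, 3, 2, 5, 4, 3, 2], 0, []), ([0,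
    2, 0, 3, 2, 0, 4, 3, 2, 0, 5, 4, 3, 2, 0], 0, []), ([1, 2, 3, 1, 2, 3, 4, 3, 1, 2, 3, 4, 5, 4, 3, 1, 2, 3, 4, 5],
    0, []), ([0, 1, 2, 0, 3, 1, 2, 0, 3, 2, 4, 3, 1, 2, 0, 3, 2, 4, 3, 1, 5, 4, 3, 1, 2, 0, 3, 2, 4, 3, 1, 5, 4, 3, 2,
    0], 0, []), ([6], 8, [5, 6, 4, 5, 3, 4, 2, 3, 0, 2]), ([0, 6], 7, [5, 6, 2, 3, 0, 2, 1, 3, 4, 5, 3, 2, 1, 3, 0,
    2]), ([1, 6], 7, [5, 6, 4, 5, 3, 2, 1, 3, 0, 2]), ([0, 1, 6], 6, [3, 4, 5, 6, 2, 3, 0, 2, 1, 3, 4, 5, 2, 3, 0, 2,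
    1, 3]), ([2, 6], 7, [5, 6, 3, 2, 1, 3, 4, 5, 3, 2, 1, 3, 0, 2]), ([0, 2, 0, 6], 0, []), ([1, 2, 6], 6, [0, 2, 3,
    4, 5, 6, 2, 3, 0, 2, 1, 3, 4, 5, 2, 3, 0, 2, 1, 3]), ([0, 1, 2, 0, 6], 0, []), ([3, 6], 7, [5, 6, 1, 3, 4, 5, 3,
    2, 1, 3, 0, 2]), ([0, 3, 6], 6, [4, 5, 6, 2, 3, 0, 2, 1, 3, 4, 5, 3, 0, 2, 1, 3]), ([1, 3, 1, 6], 0, []), ([0, 1,
    3, 1, 6], 0, []), ([2, 3, 2, 6], 0, []), ([0, 2, 0, 3, 2, 0, 6], 0, []), ([1, 2, 3, 1, 2, 3, 6], 0, []), ([0, 1,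
    2, 0, 3, 1, 2, 0, 3, 2, 6], 0, []), ([4, 6], 7, [3, 4, 5, 6, 1, 3, 4, 5, 3, 2, 1, 3, 0, 2]), ([0, 4, 6], 6, [2, 3,
    4, 5, 6, 1, 3, 4, 5, 3, 0, 2, 1, 3]), ([1, 4, 6], 6, [7, 6, 5, 4, 3, 2, 1, 3, 4, 5, 6, 7, 5, 4, 3, 2, 1, 3, 4, 5,
    3, 2, 1, 3]), ([0, 1, 4, 6], 5, [7, 5, 6, 3, 4, 5, 4, 3, 2, 1, 3, 4, 0, 2, 3, 0, 2, 0]), ([2, 4, 6], 6, [5, 4, 3,
    2, 1, 3, 4, 5, 3, 2, 1, 3]), ([0, 2, 0, 4, 6], 0, []), ([1, 2, 4, 6], 5, [7, 5, 6, 0, 2, 3, 4, 5, 4, 3, 2, 1, 3,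
    4, 0, 2, 3, 0, 2, 0]), ([0, 1, 2, 0, 4, 6], 0, []), ([3, 4, 3, 6], 0, []), ([0, 3, 4, 3, 6], 0, []), ([1, 3, 1, 4,
    3, 1, 6], 0, []), ([0, 1, 3, 1, 4, 3, 1, 6], 0, []), ([2, 3, 2, 4, 3, 2, 6], 0, []), ([0, 2, 0, 3, 2, 0, 4, 3, 2,
    0, 6], 0, []), ([1, 2, 3, 1, 2, 3, 4, 3, 1, 2, 3, 4, 6], 3, [7, 6, 5, 0, 2, 3, 4, 3, 2, 1, 3, 0, 2, 0]), ([0, 1,
    2, 0, 3, 1, 2, 0, 3, 2, 4, 3, 1, 2, 0, 3, 2, 4, 3, 1, 6], 0, []), ([5, 6, 5], 0, []), ([0, 5, 6, 5], 0, []), ([1,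
    5, 6, 5], 0, []), ([0, 1, 5, 6, 5], 0, []), ([2, 5, 6, 5], 0, []), ([0, 2, 0, 5, 6, 5], 0, []), ([1, 2, 5, 6, 5],
    0, []), ([0, 1, 2, 0, 5, 6, 5], 0, []), ([3, 5, 6, 5], 0, []), ([0, 3, 5, 6, 5], 0, []), ([1, 3, 1, 5, 6, 5], 0,
    []), ([0, 1, 3, 1, 5, 6, 5], 0, []), ([2, 3, 2, 5, 6, 5], 0, []), ([0, 2, 0, 3, 2, 0, 5, 6, 5], 0, []), ([1, 2, 3,
    1, 2, 3, 5, 6, 5], 0, []), ([0, 1, 2, 0, 3, 1, 2, 0, 3, 2, 5, 6, 5], 0, []), ([4, 5, 4, 6, 5, 4], 0, []), ([0, 4,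
    5, 4, 6, 5, 4], 0, []), ([1, 4, 5, 4, 6, 5, 4], 0, []), ([0, 1, 4, 5, 4, 6, 5, 4], 0, []), ([2, 4, 5, 4, 6, 5, 4],
    0, []), ([0, 2, 0, 4, 5, 4, 6, 5, 4], 0, []), ([1, 2, 4, 5, 4, 6, 5, 4], 0, []), ([0, 1, 2, 0, 4, 5, 4, 6, 5, 4],
    0, []), ([3, 4, 3, 5, 4, 3, 6, 5, 4, 3], 0, []), ([0, 3, 4, 3, 5, 4, 3, 6, 5, 4, 3], 0, []), ([1, 3, 1, 4, 3, 1,
    5, 4, 3, 1, 6, 5, 4, 3, 1], 0, []), ([0, 1, 3, 1, 4, 3, 1, 5, 4, 3, 1, 6, 5, 4, 3, 1], 0, []), ([2, 3, 2, 4, 3, 2,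
    5, 4, 3, 2, 6, 5, 4, 3, 2], 0, []), ([0, 2, 0, 3, 2, 0, 4, 3, 2, 0, 5, 4, 3, 2, 0, 6, 5, 4, 3, 2, 0], 0, []), ([1,
    2, 3, 1, 2, 3, 4, 3, 1, 2, 3, 4, 5, 4, 3, 1, 2, 3, 4, 5, 6, 5, 4, 3, 1, 2, 3, 4, 5, 6], 2, [7, 6, 5, 4, 3, 1]),
    ([0, 1, 2, 0, 3, 1, 2, 0, 3, 2, 4, 3, 1, 2, 0, 3, 2, 4, 3, 1, 5, 4, 3, 1, 2, 0, 3, 2, 4, 3, 1, 5, 4, 3, 2, 0, 6,
    5, 4, 3, 1, 2, 0, 3, 2, 4, 3, 1, 5, 4, 3, 2, 0, 6, 5, 4, 3, 1, 2, 3, 4, 5, 6], 1, []), ([7], 8, [6, 7, 5, 6, 4, 5,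
    3, 4, 2, 3, 0, 2]), ([0, 7], 7, [6, 7, 5, 6, 2, 3, 0, 2, 1, 3, 4, 5, 3, 2, 1, 3, 0, 2]), ([1, 7], 7, [6, 7, 5, 6,
    4, 5, 3, 2, 1, 3, 0, 2]), ([0, 1, 7], 6, [6, 7, 3, 4, 5, 6, 2, 3, 0, 2, 1, 3, 4, 5, 2, 3, 0, 2, 1, 3]), ([2, 7],
    7, [6, 7, 5, 6, 3, 2, 1, 3, 4, 5, 3, 2, 1, 3, 0, 2]), ([0, 2, 0, 7], 0, []), ([1, 2, 7], 6, [6, 7, 0, 2, 3, 4, 5,
    6, 2, 3, 0, 2, 1, 3, 4, 5, 2, 3, 0, 2, 1, 3]), ([0, 1, 2, 0, 7], 0, []), ([3, 7], 7, [6, 7, 5, 6, 1, 3, 4, 5, 3,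
    2, 1, 3, 0, 2]), ([0, 3, 7], 6, [6, 7, 4, 5, 6, 2, 3, 0, 2, 1, 3, 4, 5, 3, 0, 2, 1, 3]), ([1, 3, 1, 7], 0, []),
    ([0, 1, 3, 1, 7], 0, []), ([2, 3, 2, 7], 0, []), ([0, 2, 0, 3, 2, 0, 7], 0, []), ([1, 2, 3, 1, 2, 3, 7], 0, []),
    ([0, 1, 2, 0, 3, 1, 2, 0, 3, 2, 7], 0, []), ([4, 7], 7, [6, 7, 3, 4, 5, 6, 1, 3, 4, 5, 3, 2, 1, 3, 0, 2]), ([0, 4,
    7], 6, [6, 7, 2, 3, 4, 5, 6, 1, 3, 4, 5, 3, 0, 2, 1, 3]), ([1, 4, 7], 6, [5, 4, 3, 2, 1, 3, 4, 5, 6, 7, 5, 4, 3,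
    2, 1, 3, 4, 5, 3, 2, 1, 3]), ([0, 1, 4, 7], 5, [5, 6, 3, 4, 5, 3, 2, 1, 3, 4, 0, 2, 3, 0, 2, 0]), ([2, 4, 7], 6,
    [6, 7, 5, 4, 3, 2, 1, 3, 4, 5, 3, 2, 1, 3]), ([0, 2, 0, 4, 7], 0, []), ([1, 2, 4, 7], 5, [5, 6, 0, 2, 3, 4, 5, 3,
    2, 1, 3, 4, 0, 2, 3, 0, 2, 0]), ([0, 1, 2, 0, 4, 7], 0, []), ([3, 4, 3, 7], 0, []), ([0, 3, 4, 3, 7], 0, []), ([1,
    3, 1, 4, 3, 1, 7], 0, []), ([0, 1, 3, 1, 4, 3, 1, 7], 0, []), ([2, 3, 2, 4, 3, 2, 7], 0, []), ([0, 2, 0, 3, 2, 0,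
    4, 3, 2, 0, 7], 0, []), ([1, 2, 3, 1, 2, 3, 4, 3, 1, 2, 3, 4, 7], 3, [5, 0, 2, 3, 4, 3, 2, 1, 3, 0, 2, 0]), ([0,
    1, 2, 0, 3, 1, 2, 0, 3, 2, 4, 3, 1, 2, 0, 3, 2, 4, 3, 1, 7], 0, []), ([5, 7], 7, [4, 5, 6, 7, 3, 4, 5, 6, 1, 3, 4,
    5, 3, 2, 1, 3, 0, 2]), ([0, 5, 7], 6, [4, 5, 6, 7, 2, 3, 4, 5, 6, 1, 3, 4, 5, 3, 0, 2, 1, 3]), ([1, 5, 7], 6, [3,
    2, 1, 3, 4, 5, 6, 7, 5, 4, 3, 2, 1, 3, 4, 5, 3, 2, 1, 3]), ([0, 1, 5, 7], 5, [6, 3, 4, 5, 2, 1, 3, 4, 0, 2, 3, 0,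
    2, 0]), ([2, 5, 7], 6, [4, 5, 6, 7, 5, 4, 3, 2, 1, 3, 4, 5, 3, 2, 1, 3]), ([0, 2, 0, 5, 7], 0, []), ([1, 2, 5, 7],
    5, [6, 0, 2, 3, 4, 5, 2, 1, 3, 4, 0, 2, 3, 0, 2, 0]), ([0, 1, 2, 0, 5, 7], 0, []), ([3, 5, 7], 6, [2, 3, 4, 5, 6,
    7, 5, 4, 3, 2, 1, 3, 4, 5, 3, 2, 1, 3]), ([0, 3, 5, 7], 5, [6, 4, 5, 2, 3, 4, 0, 2, 3, 0, 2, 0]), ([1, 3, 1, 5,
    7], 0, []), ([0, 1, 3, 1, 5, 7], 0, []), ([2, 3, 2, 5, 7], 0, []), ([0, 2, 0, 3, 2, 0, 5, 7], 0, []), ([1, 2, 3,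
    1, 2, 3, 5, 7], 0, []), ([0, 1, 2, 0, 3, 1, 2, 0, 3, 2, 5, 7], 0, []), ([4, 5, 4, 7], 0, []), ([0, 4, 5, 4, 7], 0,
    []), ([1, 4, 5, 4, 7], 0, []), ([0, 1, 4, 5, 4, 7], 0, []), ([2, 4, 5, 4, 7], 0, []), ([0, 2, 0, 4, 5, 4, 7], 0,
    []), ([1, 2, 4, 5, 4, 7], 0, []), ([0, 1, 2, 0, 4, 5, 4, 7], 0, []), ([3, 4, 3, 5, 4, 3, 7], 0, []), ([0, 3, 4, 3,
    5, 4, 3, 7], 0, []), ([1, 3, 1, 4, 3, 1, 5, 4, 3, 1, 7], 0, []), ([0, 1, 3, 1, 4, 3, 1, 5, 4, 3, 1, 7], 0, []),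
    ([2, 3, 2, 4, 3, 2, 5, 4, 3, 2, 7], 0, []), ([0, 2, 0, 3, 2, 0, 4, 3, 2, 0, 5, 4, 3, 2, 0, 7], 0, []), ([1, 2, 3,
    1, 2, 3, 4, 3, 1, 2, 3, 4, 5, 4, 3, 1, 2, 3, 4, 5, 7], 0, []), ([0, 1, 2, 0, 3, 1, 2, 0, 3, 2, 4, 3, 1, 2, 0, 3,
    2, 4, 3, 1, 5, 4, 3, 1, 2, 0, 3, 2, 4, 3, 1, 5, 4, 3, 2, 0, 7], 0, []), ([6, 7, 6], 0, []), ([0, 6, 7, 6], 0, []),
    ([1, 6, 7, 6], 0, []), ([0, 1, 6, 7, 6], 0, []), ([2, 6, 7, 6], 0, []), ([0, 2, 0, 6, 7, 6], 0, []), ([1, 2, 6, 7,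
    6], 0, []), ([0, 1, 2, 0, 6, 7, 6], 0, []), ([3, 6, 7, 6], 0, []), ([0, 3, 6, 7, 6], 0, []), ([1, 3, 1, 6, 7, 6],
    0, []), ([0, 1, 3, 1, 6, 7, 6], 0, []), ([2, 3, 2, 6, 7, 6], 0, []), ([0, 2, 0, 3, 2, 0, 6, 7, 6], 0, []), ([1, 2,
    3, 1, 2, 3, 6, 7, 6], 0, []), ([0, 1, 2, 0, 3, 1, 2, 0, 3, 2, 6, 7, 6], 0, []), ([4, 6, 7, 6], 0, []), ([0, 4, 6,
    7, 6], 0, []), ([1, 4, 6, 7, 6], 0, []), ([0, 1, 4, 6, 7, 6], 0, []), ([2, 4, 6, 7, 6], 0, []), ([0, 2, 0, 4, 6,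
    7, 6], 0, []), ([1, 2, 4, 6, 7, 6], 0, []), ([0, 1, 2, 0, 4, 6, 7, 6], 0, []), ([3, 4, 3, 6, 7, 6], 0, []), ([0,
    3, 4, 3, 6, 7, 6], 0, []), ([1, 3, 1, 4, 3, 1, 6, 7, 6], 0, []), ([0, 1, 3, 1, 4, 3, 1, 6, 7, 6], 0, []), ([2, 3,
    2, 4, 3, 2, 6, 7, 6], 0, []), ([0, 2, 0, 3, 2, 0, 4, 3, 2, 0, 6, 7, 6], 0, []), ([1, 2, 3, 1, 2, 3, 4, 3, 1, 2, 3,
    4, 6, 7, 6], 0, []), ([0, 1, 2, 0, 3, 1, 2, 0, 3, 2, 4, 3, 1, 2, 0, 3, 2, 4, 3, 1, 6, 7, 6], 0, []), ([5, 6, 5, 7,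
    6, 5], 0, []), ([0, 5, 6, 5, 7, 6, 5], 0, []), ([1, 5, 6, 5, 7, 6, 5], 0, []), ([0, 1, 5, 6, 5, 7, 6, 5], 0, []),
    ([2, 5, 6, 5, 7, 6, 5], 0, []), ([0, 2, 0, 5, 6, 5, 7, 6, 5], 0, []), ([1, 2, 5, 6, 5, 7, 6, 5], 0, []), ([0, 1,
    2, 0, 5, 6, 5, 7, 6, 5], 0, []), ([3, 5, 6, 5, 7, 6, 5], 0, []), ([0, 3, 5, 6, 5, 7, 6, 5], 0, []), ([1, 3, 1, 5,
    6, 5, 7, 6, 5], 0, []), ([0, 1, 3, 1, 5, 6, 5, 7, 6, 5], 0, []), ([2, 3, 2, 5, 6, 5, 7, 6, 5], 0, []), ([0, 2, 0,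
    3, 2, 0, 5, 6, 5, 7, 6, 5], 0, []), ([1, 2, 3, 1, 2, 3, 5, 6, 5, 7, 6, 5], 0, []), ([0, 1, 2, 0, 3, 1, 2, 0, 3, 2,
    5, 6, 5, 7, 6, 5], 0, []), ([4, 5, 4, 6, 5, 4, 7, 6, 5, 4], 0, []), ([0, 4, 5, 4, 6, 5, 4, 7, 6, 5, 4], 0, []),
    ([1, 4, 5, 4, 6, 5, 4, 7, 6, 5, 4], 0, []), ([0, 1, 4, 5, 4, 6, 5, 4, 7, 6, 5, 4], 0, []), ([2, 4, 5, 4, 6, 5, 4,
    7, 6, 5, 4], 0, []), ([0, 2, 0, 4, 5, 4, 6, 5, 4, 7, 6, 5, 4], 0, []), ([1, 2, 4, 5, 4, 6, 5, 4, 7, 6, 5, 4], 0,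
    []), ([0, 1, 2, 0, 4, 5, 4, 6, 5, 4, 7, 6, 5, 4], 0, []), ([3, 4, 3, 5, 4, 3, 6, 5, 4, 3, 7, 6, 5, 4, 3], 0, []),
    ([0, 3, 4, 3, 5, 4, 3, 6, 5, 4, 3, 7, 6, 5, 4, 3], 0, []), ([1, 3, 1, 4, 3, 1, 5, 4, 3, 1, 6, 5, 4, 3, 1, 7, 6, 5,
    4, 3, 1], 0, []), ([0, 1, 3, 1, 4, 3, 1, 5, 4, 3, 1, 6, 5, 4, 3, 1, 7, 6, 5, 4, 3, 1], 0, []), ([2, 3, 2, 4, 3, 2,
    5, 4, 3, 2, 6, 5, 4, 3, 2, 7, 6, 5, 4, 3, 2], 0, []), ([0, 2, 0, 3, 2, 0, 4, 3, 2, 0, 5, 4, 3, 2, 0, 6, 5, 4, 3,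
    2, 0, 7, 6, 5, 4, 3, 2, 0], 0, []), ([1, 2, 3, 1, 2, 3, 4, 3, 1, 2, 3, 4, 5, 4, 3, 1, 2, 3, 4, 5, 6, 5, 4, 3, 1,
    2, 3, 4, 5, 6, 7, 6, 5, 4, 3, 1, 2, 3, 4, 5, 6, 7], 0, []), ([0, 1, 2, 0, 3, 1, 2, 0, 3, 2, 4, 3, 1, 2, 0, 3, 2,
    4, 3, 1, 5, 4, 3, 1, 2, 0, 3, 2, 4, 3, 1, 5, 4, 3, 2, 0, 6, 5, 4, 3, 1, 2, 0, 3, 2, 4, 3, 1, 5, 4, 3, 2, 0, 6, 5,
    4, 3, 1, 2, 3, 4, 5, 6, 7, 6, 5, 4, 3, 1, 2, 0, 3, 2, 4, 3, 1, 5, 4, 3, 2, 0, 6, 5, 4, 3, 1, 2, 3, 4, 5, 6, 7, 6,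
    5, 4, 3, 1, 2, 0, 3, 2, 4, 3, 1, 5, 4, 3, 2, 0, 6, 5, 4, 3, 1, 2, 3, 4, 5, 6, 7], 0, [])]

theorem invChkE8 : rsE8.InvChk id id
    [0, 1, 2, 0, 3, 1, 2, 0, 3, 2, 4, 3, 1, 2, 0, 3, 2, 4, 3, 1, 5, 4, 3, 1, 2, 0, 3, 2, 4, 3, 1, 5, 4, 3, 2, 0, 6, 5,
    4, 3, 1, 2, 0, 3, 2, 4, 3, 1, 5, 4, 3, 2, 0, 6, 5, 4, 3, 1, 2, 3, 4, 5, 6, 7, 6, 5, 4, 3, 1, 2, 0, 3, 2, 4, 3, 1,
    5, 4, 3, 2, 0, 6, 5, 4, 3, 1, 2, 3, 4, 5, 6, 7, 6, 5, 4, 3, 1, 2, 0, 3, 2, 4, 3, 1, 5, 4, 3, 2, 0, 6, 5, 4, 3, 1,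
    2, 3, 4, 5, 6, 7]
    (invBaseE8.map Prod.fst) invTabE8 ∧ ∀ x ∈ invBaseE8, rsE8.InvL id (fun _ => 1) (fun _ => 1) x.1 ∧
      rsE8.Chain id (fun _ => 1) (fun _ => 1) ([] :: [[239], [232, 233], [228, 222, 218], [226, 220, 213, 216]]) x.2 x.1 := by decide +kernel

theorem invClsE8 {F : Type*} [Field F] [Finite F] [CharP F 2] : ∀ g, orderOf g = 2 →
    ∃ l ∈ [[239], [232, 233], [228, 222, 218], [226, 220, 213, 216]], ∃ a, MonoidHom.id _ a = (rsE8.adj F).xl l ∧ IsConj g a :=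
  fun _ => (rsE8.reAdj F).classify actId (fun _ => rfl) (fun _ => .inl rfl) invChkE8

/-- certificate -/
def invBase2E6 : List (List ℕ × List (Bool × List ℕ × List ℕ)) :=
    [([], []), ([71], []), ([60, 71], [(true, [21, 23], [71, 68, 66])]), ([68, 66], []), ([53, 65, 69], [(true, [14,
    33], [55, 65, 67, 69]), (true, [36, 56], [55, 65, 66, 67, 68, 69]), (true, [37, 42], [55, 65, 67])]), ([55, 65,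
    67], []), ([46, 53, 65, 69], [(true, [11], [46, 47, 51, 53, 65, 69, 71]), (true, [27], [51, 53, 63, 65, 69, 71]),
    (true, [32], [53, 65, 69, 71]), (true, [47], [53, 65, 69]), (false, [], [53, 65, 69]), (true, [14, 33], [55, 65,
    67, 69]), (true, [36, 56], [55, 65, 66, 67, 68, 69]), (true, [37, 42], [55, 65, 67])]), ([46, 54, 64, 69], [(true,
    [12, 26], [52, 54, 62, 64, 69, 71]), (true, [32], [54, 64, 69, 71]), (true, [47], [54, 69, 64]), (false, [2, 4],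
    [55, 65, 67])])]

/-- certificate -/
def invTab2E6 : List (List ℕ × ℕ × List ℕ) :=
    [([], 6, []), ([], 0, []), ([1], 4, []), ([], 0, []), ([], 0, []), ([], 0, []), ([], 0, []), ([], 0, []), ([3], 4,
    [1, 3]), ([], 0, []), ([1, 3, 1], 0, []), ([], 0, []), ([], 0, []), ([], 0, []), ([], 0, []), ([], 0, []), ([], 0,
    []), ([], 0, []), ([], 0, []), ([], 0, []), ([2, 4], 7, [0, 5, 2, 4]), ([], 0, []), ([1, 2, 4], 5, [0, 5]), ([],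
    0, []), ([], 0, []), ([], 0, []), ([], 0, []), ([], 0, []), ([2, 3, 2, 4, 3, 2], 2, []), ([], 0, []), ([1, 2, 3,
    1, 2, 3, 4, 3, 1, 2, 3, 4], 3, []), ([], 0, []), ([], 0, []), ([0, 5], 7, []), ([], 0, []), ([0, 1, 5], 5, [2,
    4]), ([], 0, []), ([], 0, []), ([], 0, []), ([], 0, []), ([], 0, []), ([0, 3, 5], 5, [1, 3, 2, 4]), ([], 0, []),
    ([0, 1, 3, 1, 5], 0, []), ([], 0, []), ([], 0, []), ([], 0, []), ([], 0, []), ([], 0, []), ([], 0, []), ([], 0,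
    []), ([], 0, []), ([], 0, []), ([0, 2, 0, 4, 5, 4], 0, []), ([], 0, []), ([0, 1, 2, 0, 4, 5, 4], 0, []), ([], 0,
    []), ([], 0, []), ([], 0, []), ([], 0, []), ([], 0, []), ([0, 2, 0, 3, 2, 0, 4, 3, 2, 0, 5, 4, 3, 2, 0], 1, []),
    ([], 0, []), ([0, 1, 2, 0, 3, 1, 2, 0, 3, 2, 4, 3, 1, 2, 0, 3, 2, 4, 3, 1, 5, 4, 3, 1, 2, 0, 3, 2, 4, 3, 1, 5, 4,
    3, 2, 0], 0, [])]

theorem invChk2E6 : rsE6.InvChk pi2E6 orb2E6.π₀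
    [0, 1, 2, 0, 3, 1, 2, 0, 3, 2, 4, 3, 1, 2, 0, 3, 2, 4, 3, 1, 5, 4, 3, 1, 2, 0, 3, 2, 4, 3, 1, 5, 4, 3, 2, 0]
    (invBase2E6.map Prod.fst) invTab2E6 ∧ ∀ x ∈ invBase2E6, rsE6.InvL pi2E6 sg2E6 (fun _ => 1) x.1 ∧
      rsE6.Chain pi2E6 sg2E6 (fun _ => 1) ([] :: [[71], [68, 66], [55, 65, 67], [71, 68, 66]]) x.2 x.1 := by decide +kernel

/-- certificate -/
def invBase3D4 : List (List ℕ × List (Bool × List ℕ × List ℕ)) :=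
    [([], []), ([23], []), ([17, 20, 21], []), ([15, 16, 19, 22], [(true, [12, 18, 13], [15, 16, 19, 23]), (true, [17,
    20, 21], [19, 16, 15]), (false, [0, 2, 3], [17, 20, 21])])]

/-- certificate -/
def invTab3D4 : List (List ℕ × ℕ × List ℕ) :=
    [([], 3, []), ([], 0, []), ([1], 2, []), ([], 0, []), ([], 0, []), ([], 0, []), ([], 0, []), ([], 0, []), ([], 0,
    []), ([], 0, []), ([], 0, []), ([], 0, []), ([], 0, []), ([0, 2, 3], 1, []), ([], 0, []), ([0, 1, 0, 2, 1, 0, 3,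
    1, 0, 2, 1, 3], 0, [])]

theorem invChk3D4 : rsD4.InvChk pi3D4 orb3D4.π₀
    [0, 1, 0, 2, 1, 0, 3, 1, 0, 2, 1, 3]
    (invBase3D4.map Prod.fst) invTab3D4 ∧ ∀ x ∈ invBase3D4, rsD4.InvL pi3D4 sg3D4 (fun _ => 1) x.1 ∧
      rsD4.Chain pi3D4 sg3D4 (fun _ => 1) ([] :: [[23], [17, 20, 21]]) x.2 x.1 := by decide +kernel

end Cfsg.Agent.H5
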