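import Cfsg.Agent.H5.Rp1
import Cfsg.Agent.H4.Orth

/-! The Chevalley groups of types `B₂` and `D₄` as orthogonal groups. -/

set_option autoImplicit false

namespace Cfsg.Agent.H5

open Cfsg.Lie H4 H4.CForm

variable {F : Type*} [Field F] {V : Type*} [AddCommGroup V] [Module F V] {f : CForm (FType.orth F) V}

theorem E_le_of_set {M : Subgroup (V ≃ₗ[F] V)} {A : Set V} (h1 : ∀ a ∈ A, f.Q a = 0 ∧ f.X a ≤ M)
    (h2 : ∀ u, u ≠ 0 → f.Q u = 0 → ∃ a ∈ A, ∃ a' ∈ A, f.B u a ≠ 0 ∧ f.B a' a = 1) : f.E ≤ M := E_le_of_X fun u h0 hu => by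
  obtain ⟨a, ha, a', ha', h3, h4⟩ := h2 u h0 hu
  obtain ⟨b, c, h5, h6⟩ := exists_eich_map (w := f.B u a • a') (w' := u) (h1 a ha).1 (by simp [h4]) (by simpa [h4] using h3)
    (by rw [hu, f.Q_smul_of_Q (h1 a' ha').1])
  rw [← h6]
  exact X_map_le' ((X_smul_le (h1 a' ha').1 _).trans (h1 a' ha').2) h5.mem_iso ((h1 a ha).2 h5.mem_X)

theorem eich_swap {u v : V} (hu : f.Q u = 0) (hv : f.Q v = 0) (h : f.B v u = 0) (c : F) :
    f.eich u (c • v) 0 = f.eich v (-c • u) 0 := by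
  ext x
  rw [eich_apply' (f.B_self_of_Q hu) (by simp [h]), eich_apply' (f.B_self_of_Q hv) (by simp [f.B_zero_symm h])]
  simp only [map_smulₛₗ, FType.orth_σ, FType.orth_ε, smul_eq_mul]
  module

/-- a basis adapted to a quadratic form -/
structure OB (f : CForm (FType.orth F) V) (n : ℕ) (gr : ℕ → ℕ → ℤ) (qq : ℕ → ℤ) (bv : ℕ → V) : Prop where
  hB : ∀ i j, f.B (bv i) (bv j) = gr i j
  hQ : ∀ i, f.Q (bv i) = qq i
  span : ∀ v, ∃ c : ℕ → F, v = ∑ k ∈ Finset.range n, c k • bv k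
  sing : ∀ u, f.Q u = 0 → (∀ a < n, qq a = 0 → f.B u (bv a) = 0) → u = 0

def ocol (gr : ℕ → ℕ → ℤ) (qq : ℕ → ℤ) (a b : ℕ → ℕ) (ε : ℕ → ℤ) : Col := fun r k =>
  [(k, 1, 0), (a r, ε r * gr k (b r), 1), (b r, -(ε r * gr k (a r)), 1), (a r, -(gr k (a r) * ε r ^ 2 * qq (b r)), 2)]

def OChk (n N : ℕ) (gr : ℕ → ℕ → ℤ) (qq : ℕ → ℤ) (a b : ℕ → ℕ) (ε : ℕ → ℤ) : Prop :=
  (∀ r < N, qq (a r) = 0 ∧ gr (b r) (a r) = 0 ∧ ε r * ε r = 1) ∧ ∀ i < n, qq i = 0 → ∃ j < n, qq j = 0 ∧ gr j i = 1 ∧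
    ∀ k < n, k = j ∨ gr k i = 0 ∧ (k = i ∨ ∃ r < N, a r = i ∧ b r = k ∨ a r = k ∧ b r = i)

set_option synthInstance.maxSize 2000 in
instance (n N : ℕ) (gr : ℕ → ℕ → ℤ) (qq : ℕ → ℤ) (a b : ℕ → ℕ) (ε : ℕ → ℤ) : Decidable (OChk n N gr qq a b ε) := by
  unfold OChk; infer_instance

variable {n : ℕ} {gr : ℕ → ℕ → ℤ} {qq : ℕ → ℤ} {bv : ℕ → V} (O : OB f n gr qq bv) {D : ChevalleyDatum} {a b : ℕ → ℕ} {ε : ℕ → ℤ}
  (h : OChk n D.nroots gr qq a b ε)

variable (f bv a b ε) in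
noncomputable def oX (r : Φ D) (t : F) : V ≃ₗ[F] V := f.eich (bv (a r)) ((ε r * t) • bv (b r)) (f.Q ((ε r * t) • bv (b r)))

include O h

theorem OB.ok (r : Φ D) (t : F) : f.EichOk (bv (a r)) (t • bv (b r)) (f.Q (t • bv (b r))) :=
  orth_eichOk (by rw [O.hQ, (h.1 r r.2).1, Int.cast_zero]) (by simp [O.hB, (h.1 r r.2).2.1])

theorem OB.rel12 (R : RS D) (hc : R.toCert.repChk (ocol gr qq a b ε) n D.nroots = true) : R.Rel12 (oX f bv a b ε) := by
  refine R.rel12_of_col (bv := bv) (fun r t k => ?_) (fun g g' e => LinearEquiv.ext fun v => ?_) hc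
  · rw [oX, (O.ok h r _).apply, orth_Q_smul]
    simp only [ocol, map_smulₛₗ, FType.orth_σ, FType.orth_ε, smul_eq_mul, O.hB, O.hQ, List.map_cons, List.map_nil, List.sum_cons,
      List.sum_nil]
    push_cast
    module
  · obtain ⟨c, rfl⟩ := O.span v
    simp only [map_sum, map_smul]
    exact Finset.sum_congr rfl fun k hk => by rw [e k (Finset.mem_range.1 hk)]

theorem OB.E_eq : f.E = Subgroup.closure {g | ∃ (r : Φ D) (t : F), g = oX f bv a b ε r t} := by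
  refine le_antisymm (E_le_of_set (A := {v | ∃ i < n, qq i = 0 ∧ v = bv i}) ?_ fun u h0 hu => ?_)
    ((Subgroup.closure_le _).2 (by rintro _ ⟨r, t, rfl⟩; exact (O.ok h r _).mem_E))
  · rintro _ ⟨i, hi, hq, rfl⟩
    have hQ : f.Q (bv i) = 0 := by rw [O.hQ, hq, Int.cast_zero]
    refine ⟨hQ, X_le_of_siegelSub hQ fun v hv => ?_⟩
    obtain ⟨j, hj, -, h1, h2⟩ := h.2 i hi hq
    obtain ⟨c, rfl⟩ := O.span v
    have h3 : c j = 0 := by
      rw [map_sum, LinearMap.sum_apply, Finset.sum_eq_single_of_mem j (Finset.mem_range.2 hj) fun k hk e => by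
        simp [O.hB, ((h2 k (Finset.mem_range.1 hk)).resolve_left e).1]] at hv
      simpa [O.hB, h1] using hv
    refine sum_mem fun k hk => ?_
    have key : ∀ (r : Φ D) (t : F), f.eich (bv (a r)) (t • bv (b r)) (f.Q (t • bv (b r))) ∈
        Subgroup.closure {g | ∃ (r : Φ D) (t : F), g = oX f bv a b ε r t} := fun r t => Subgroup.subset_closure
      ⟨r, ε r * t, by rw [oX, ← mul_assoc, ← Int.cast_mul, (h.1 r r.2).2.2, Int.cast_one, one_mul]⟩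
    rcases h2 k (Finset.mem_range.1 hk) with rfl | ⟨h4, rfl | ⟨r, hr, ⟨rfl, rfl⟩ | ⟨rfl, rfl⟩⟩⟩
    · simp [h3]
    · exact smul_self_mem_siegelSub hQ _ _
    · exact (mem_siegelSub hQ).2 ⟨by simp [O.hB, h4], key ⟨r, hr⟩ _⟩
    · have hQ' : f.Q (bv (a r)) = 0 := by rw [O.hQ, (h.1 r hr).1, Int.cast_zero]
      refine (mem_siegelSub hQ).2 ⟨by simp [O.hB, h4], ?_⟩
      rw [f.Q_smul_of_Q hQ', eich_swap hQ hQ' (by simp [O.hB, h4]), ← f.Q_smul_of_Q hQ (-c (a r))]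
      exact key ⟨r, hr⟩ _
  · by_contra! hn
    refine h0 (O.sing u hu fun i hi hq => by_contra fun h1 => ?_)
    obtain ⟨j, hj, h2, h3, -⟩ := h.2 i hi hq
    exact hn _ ⟨i, hi, hq, rfl⟩ _ ⟨j, hj, h2, rfl⟩ h1 (by rw [O.hB, h3, Int.cast_one])

omit O h in
theorem step_pair {g : V ≃ₗ[F] V} (hg : g ∈ f.iso) {e w z : V} (he : f.Q e = 0) (hw : f.Q w = 0) (hB : f.B e w = 1)
    (hz : f.Q z = 0) (h1 : f.B (g w) z ≠ 0) (h2 : f.B w z = 1) :
    ∃ m ∈ f.E, (∀ s, f.B s z = 0 → f.B s e = 0 → f.B s w = 0 → f.B s (g e) = 0 → f.B s (g w) = 0 → m s = s) ∧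
      ∃ c : F, c ≠ 0 ∧ (m * g) w = c • w ∧ (m * g) e = c⁻¹ • e := by
  obtain ⟨x, y, h3, h4⟩ := exists_eich_map (w := g w) (w' := f.B (g w) z • w) hz (by simp [h2]) h1
    (by rw [hg.2, hw, f.Q_smul_of_Q hw])
  set m := f.eich z (x • (g w - f.B (g w) z • w)) y with hm
  have h5 : f.B (m (g e)) w = (f.B (g w) z)⁻¹ := by
    have := h3.mem_iso.1 (g e) (g w)
    rw [h4, hg.1, hB] at this
    simp only [map_smulₛₗ, FType.orth_σ, smul_eq_mul] at this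
    exact eq_inv_of_mul_eq_one_right this
  obtain ⟨x', y', h6, h7⟩ := exists_eich_map (w := m (g e)) (w' := (f.B (g w) z)⁻¹ • e) hw (by simp [hB, h5])
    (by simpa [h5] using h1) (by rw [h3.mem_iso.2, hg.2, he, f.Q_smul_of_Q he])
  refine ⟨_ * m, mul_mem h6.mem_E h3.mem_E, fun s a1 a2 a3 a4 a5 => ?_, _, h1, ?_, h7⟩
  · have a6 : m s = s := eich_fix _ a1 (by simp [a3, a5])
    have a7 := h3.mem_iso.1 s (g e)
    rw [← hm, a6, a4] at a7
    rw [LinearEquiv.mul_apply, a6, eich_fix _ a3 (by simp [a2, a7])]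
  · rw [LinearEquiv.mul_apply, LinearEquiv.mul_apply, h4, map_smul, h6.apply_self]

omit h in
theorem OB.comm_le (hd : ∀ g ∈ f.iso, ∃ m ∈ f.E, ∀ k < n, ∃ c : F, (m * g) (bv k) = c • bv k) : ⁅f.iso, f.iso⁆ ≤ f.E := by
  refine commutator_le_of_gen (s := {g | g ∈ f.iso ∧ (g ∈ f.E ∨ ∀ k < n, ∃ c : F, g (bv k) = c • bv k)}) (fun g hg => ?_)
    (fun g hg => hg.1) (fun g hg e he => conj_mem_E hg he) ?_
  · obtain ⟨m, hm, h⟩ := hd g hg
    rw [← inv_mul_cancel_left m g]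
    exact mul_mem (inv_mem (Subgroup.subset_closure ⟨E_le_iso hm, .inl hm⟩))
      (Subgroup.subset_closure ⟨mul_mem (E_le_iso hm) hg, .inr h⟩)
  · rintro g ⟨hg, h | h⟩ g' ⟨hg', h'⟩
    · simpa [commutatorElement_def, mul_assoc] using mul_mem h (conj_mem_E hg' (inv_mem h))
    rcases h' with h' | h'
    · exact mul_mem (conj_mem_E hg h') (inv_mem h')
    rw [commutatorElement_eq_one_iff_mul_comm.2 (LinearEquiv.ext fun v => ?_)]
    · exact one_mem _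
    obtain ⟨c, rfl⟩ := O.span v
    simp only [map_sum, map_smul]
    refine Finset.sum_congr rfl fun k hk => ?_
    obtain ⟨x, hx⟩ := h k (Finset.mem_range.1 hk)
    obtain ⟨y, hy⟩ := h' k (Finset.mem_range.1 hk)
    simp only [LinearEquiv.mul_apply, hx, hy, map_smul, smul_comm x y]

omit O h in
theorem pomega_of {ι : Type} [Fintype ι] [DecidableEq ι] {f : CForm (FType.orth F) (ι → F)} {bv : ℕ → ι → F} (O : OB f n gr qq bv)
    (h : OChk n D.nroots gr qq a b ε) (R : RS D) (hR : R.Good) (hc : R.toCert.repChk (ocol gr qq a b ε) n D.nroots = true)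
    [IsSimpleGroup (D.group F)] (hp : commutator (D.SteinbergCover F) = ⊤) (hE : ⁅f.iso, f.iso⁆ ≤ f.E) (r : Φ D) {k : ℕ}
    (h1 : gr k (a r) = 0) (h2 : gr k (b r) = 1) {j : ℕ} (h3 : gr (a r) j = 1) : Nonempty (D.group F ≃* POmega F f.Q) := by
  obtain ⟨h4, ⟨e⟩⟩ := R.equiv_of_rel12 hR hp (O.rel12 h R hc) (O.E_eq h) fun h5 => by
    have h6 := (O.ok h r 1).apply (bv k)
    rw [(Subgroup.eq_bot_iff_forall _).1 h5 _ (O.ok h r 1).mem_E] at h6
    simpa [O.hB, h1, h2, h3] using congrArg (f.B · (bv j)) h6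
  exact ⟨e.trans (quotCenterEquiv ((omegaEquiv f).trans (MulEquiv.subgroupCongr (le_antisymm hE
    (h4.trans (Subgroup.commutator_mono E_le_iso E_le_iso)))))).symm⟩

def dl (i j : ℕ) : ℤ := if i = j then 1 else 0

def grP (m i j : ℕ) : ℤ := ∑ k : Fin m, (dl k i * dl (k + m) j + dl (k + m) i * dl k j)

variable (F) in
def bvP (m k : ℕ) : Fin m ⊕ Fin m → F := Sum.elim (fun i => dl i k) fun i => dl (i + m) k

omit O h in
theorem span_P (m : ℕ) (v : Fin m ⊕ Fin m → F) : ∃ c : ℕ → F, v = ∑ k ∈ Finset.range (m + m), c k • bvP F m k := by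
  refine ⟨fun k => if h : k < m then v (.inl ⟨k, h⟩) else if h' : k - m < m then v (.inr ⟨k - m, h'⟩) else 0, funext fun i => ?_⟩
  rcases i with i | i
  · rw [Finset.sum_apply, Finset.sum_eq_single_of_mem (i : ℕ) (by simp; omega) fun k _ e => by simp [bvP, dl, e.symm]]
    simp [bvP, dl]
  · rw [Finset.sum_apply, Finset.sum_eq_single_of_mem (i + m : ℕ) (by simp) fun k _ e => by simp [bvP, dl, e.symm]]
    simp [bvP, dl]

omit O h in
theorem obD4 : OB (plusF F 4) 8 (grP 4) (fun _ => 0) (bvP F 4) where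
  hB i j := by simp [plusF_B, polar_plus, bvP, grP]
  hQ i := by
    rw [plusF_Q, quadFormPlus, Int.cast_zero]
    refine Finset.sum_eq_zero fun k _ => ?_
    by_cases e : (k : ℕ) = i
    · simp [bvP, dl, ← e]
    · simp [bvP, dl, e]
  span := span_P 4
  sing u _ h := plusF_nondeg 4 u fun v => by
    obtain ⟨c, rfl⟩ := span_P 4 v
    rw [map_sum]
    exact Finset.sum_eq_zero fun k hk => by simp [h k (Finset.mem_range.1 hk) rfl]

omit O h in
theorem pomegaD4 : Nonempty (chevD4.group F ≃* POmega F (quadFormPlus 4 F)) :=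
  haveI := StN.isSimpleGroup fullD4 ⟨0, by decide⟩ (rsD4.adj_gen F) (rsD4.adj_inj F) (StN.perfect1 good1D4 (rsD4.adj_gen F))
  pomega_of obD4 (a := fun r => [4, 4, 3, 4, 2, 1, 5, 3, 5, 2, 3, 6, 2, 2, 1, 1, 1, 1, 0, 0, 0, 0, 0, 0].getD r 0)
    (b := fun r => [5, 6, 4, 7, 4, 4, 6, 5, 7, 5, 6, 7, 3, 7, 6, 3, 7, 2, 5, 6, 3, 7, 2, 1].getD r 0)
    (ε := fun r => [-1, -1, 1, -1, -1, 1, 1, -1, 1, 1, 1, -1, 1, 1, 1, -1, -1, -1, 1, -1, 1, 1, 1, 1].getD r 0)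
    (by decide +kernel) rsD4 goodD4 (by decide +kernel) (StN.perfect1 good1D4 (rsD4.sc_gen F goodD4))
    ((plusF_nondeg 4).orth_commutator_le_E (by simp) fun h => by
      simpa [bvP, dl] using congrFun (h _ ((obD4.hQ 0).trans Int.cast_zero)) (.inl 0))
    ⟨0, by decide⟩ (k := 1) (by decide) (by decide) (j := 0) (by decide)

end Cfsg.Agent.H5
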