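import Cfsg.Agent.H5.OutD
import Cfsg.Agent.H5.Rp2
import Cfsg.Agent.H4.Lang7

/-! The diagonal automorphisms of `D₄(q)` are induced by diagonal similarities. -/

set_option autoImplicit false

namespace Cfsg.Agent.H5

open Cfsg.Lie StN StG RS H4 H4.CForm H4.Gam Module

theorem RS.equiv_of_rel12' {D : ChevalleyDatum} {F : Type*} [Field F] (R : RS D) (hR : R.Good) [IsSimpleGroup (D.group F)]
    {G : Type*} [Group G] {x : Φ D → F → G} (h : R.Rel12 x) (hM : Subgroup.closure {g | ∃ r t, g = x r t} = ⊤)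
    [Nontrivial (G ⧸ Subgroup.center G)] :
    ∃ e : D.group F ≃* G ⧸ Subgroup.center G, ∀ r t, e ((R.adj F).x r t) = QuotientGroup.mk (x r t) := by
  have hr : Function.Surjective (RS.scLift h) := by
    rw [← MonoidHom.range_eq_top, eq_top_iff, ← hM, Subgroup.closure_le]
    rintro _ ⟨r, t, rfl⟩; exact ⟨_, RS.scLift_x hR h r t⟩
  let π := (R.sc F hR).toAdj (R.sc_gen F hR)
  have hπ : Function.Surjective π := StN.toAdj_surj _
  have hk : π.ker = Subgroup.center _ := StN.toAdj_ker _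
  let ψ := (QuotientGroup.mk' (Subgroup.center G)).comp (RS.scLift h)
  have hψ : Function.Surjective ψ := (QuotientGroup.mk'_surjective _).comp hr
  have h1 : π.ker ≤ ψ.ker := fun z hz => by
    rw [hk, Subgroup.mem_center_iff] at hz
    refine (QuotientGroup.eq_one_iff _).2 (Subgroup.mem_center_iff.2 fun g => ?_)
    obtain ⟨g, rfl⟩ := hr g
    rw [← map_mul, hz, map_mul]
  obtain ⟨φ, hφ⟩ := exists_lift_of_surj π hπ ψ h1
  have h2 : Function.Surjective φ := fun y => (hψ y).elim fun g e => ⟨π g, (hφ g).trans e⟩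
  have h3 : Function.Injective φ := by
    rw [← MonoidHom.ker_eq_bot_iff]
    refine (inferInstance : φ.ker.Normal).eq_bot_or_eq_top.resolve_right fun h4 => ?_
    obtain ⟨y, hy⟩ := exists_ne (1 : G ⧸ Subgroup.center G)
    obtain ⟨g, rfl⟩ := h2 y
    exact hy (show g ∈ φ.ker from h4 ▸ Subgroup.mem_top g)
  refine ⟨MulEquiv.ofBijective φ ⟨h3, h2⟩, fun r t => ?_⟩
  rw [← StN.toAdj_x (R.sc_gen F hR), ← RS.scLift_x hR h r t]
  exact hφ _

namespace OutE

variable {F : Type*} [Field F]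

def aD (r : ℕ) : ℕ := [4, 4, 3, 4, 2, 1, 5, 3, 5, 2, 3, 6, 2, 2, 1, 1, 1, 1, 0, 0, 0, 0, 0, 0].getD r 0
def bD (r : ℕ) : ℕ := [5, 6, 4, 7, 4, 4, 6, 5, 7, 5, 6, 7, 3, 7, 6, 3, 7, 2, 5, 6, 3, 7, 2, 1].getD r 0
def eD (r : ℕ) : ℤ := [-1, -1, 1, -1, -1, 1, 1, -1, 1, 1, 1, -1, 1, 1, 1, -1, -1, -1, 1, -1, 1, 1, 1, 1].getD r 0

theorem chkD : OChk 8 chevD4.nroots (grP 4) (fun _ => 0) aD bD eD := by decide +kernel

theorem repD : rsD4.toCert.repChk (ocol (grP 4) (fun _ => 0) aD bD eD) 8 chevD4.nroots = true := by decide +kernel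

theorem simD : ∀ i : Fin 4, aD (rsD4.sim i) = [0, 1, 2, 2].getD i 0 ∧ bD (rsD4.sim i) = [5, 6, 7, 3].getD i 0 ∧
    aD (rsD4.neg (rsD4.sim i)) = [1, 2, 3, 6].getD i 0 ∧ bD (rsD4.neg (rsD4.sim i)) = [4, 5, 6, 7].getD i 0 := by
  decide +kernel

/-- root elements -/
noncomputable abbrev xD (r : Φ chevD4) (t : F) : (Fin 4 ⊕ Fin 4 → F) ≃ₗ[F] (Fin 4 ⊕ Fin 4 → F) :=
  oX (plusF F 4) (bvP F 4) aD bD eD r t

theorem xD_mem (r : Φ chevD4) (t : F) : xD r t ∈ (plusF F 4).E := (obD4.ok chkD r _).mem_E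

/-- diagonal maps -/
noncomputable def dS (d : ℕ → Fˣ) : (Fin 4 ⊕ Fin 4 → F) ≃ₗ[F] (Fin 4 ⊕ Fin 4 → F) :=
  glE ⟨Matrix.diagonal (Sum.elim (fun i => d i) fun i => d (i + 4)),
    Matrix.diagonal (Sum.elim (fun i => (d i)⁻¹) fun i => (d (i + 4))⁻¹),
    by rw [Matrix.diagonal_mul_diagonal, ← Matrix.diagonal_one]; congr 1; ext (i | i) <;> simp,
    by rw [Matrix.diagonal_mul_diagonal, ← Matrix.diagonal_one]; congr 1; ext (i | i) <;> simp⟩

theorem dS_l (d : ℕ → Fˣ) (v) (i : Fin 4) : dS d v (.inl i) = d i * v (.inl i) := by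
  simp [dS, Matrix.mulVec_diagonal]

theorem dS_r (d : ℕ → Fˣ) (v) (i : Fin 4) : dS d v (.inr i) = d (i + 4) * v (.inr i) := by
  simp [dS, Matrix.mulVec_diagonal]

theorem dS_bv (d : ℕ → Fˣ) (k : ℕ) : dS d (bvP F 4 k) = (d k : F) • bvP F 4 k := by
  ext (i | i)
  · rw [dS_l]; by_cases e : (i : ℕ) = k <;> simp [bvP, dl, e]
  · rw [dS_r]; by_cases e : (i : ℕ) + 4 = k <;> simp [bvP, dl, e]

variable {d : ℕ → Fˣ} {μ : Fˣ} (hd : ∀ i : Fin 4, d i * d (i + 4) = μ)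
include hd

theorem dS_B (x y) : (plusF F 4).B (dS d x) (dS d y) = μ * (plusF F 4).B x y := by
  simp only [plusF_B, polar_plus, dS_l, dS_r, Finset.mul_sum]
  exact Finset.sum_congr rfl fun i _ => by rw [← hd i, Units.val_mul]; ring

theorem dS_mem : dS d ∈ (plusF F 4).Sim := orth_mem_GamS.2 ⟨μ, fun x => by
  change quadFormPlus 4 F (dS d x) = μ * quadFormPlus 4 F x
  simp only [quadFormPlus, dS_l, dS_r, Finset.mul_sum]
  exact Finset.sum_congr rfl fun i _ => by rw [← hd i, Units.val_mul]; ring⟩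

theorem dS_det : LinearEquiv.det (dS d) = (plusF F 4).mu (lin (dS d)) ^ 4 := by
  have h1 : (plusF F 4).mu (lin (dS d)) = μ := Units.ext ((plusF_nondeg 4).mu_eq (dS_mem hd) fun x y => dS_B hd x y)
  rw [h1, dS, det_glE]
  ext
  rw [Matrix.GeneralLinearGroup.val_det_apply, Matrix.det_diagonal, Fintype.prod_sum_type, ← Finset.prod_mul_distrib]
  simp only [Sum.elim_inl, Sum.elim_inr, ← Units.val_mul, hd]
  simp

theorem dS_conj (r : Φ chevD4) (t : F) : dS d * xD r t * (dS d)⁻¹ = xD r ((d (aD r) * d (bD r) * μ⁻¹ : Fˣ) * t) := by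
  have h1 : ∀ x k, (plusF F 4).B (dS d x) (bvP F 4 k) = μ * (d k : F)⁻¹ * (plusF F 4).B x (bvP F 4 k) := fun x k => by
    have := dS_B hd x (bvP F 4 k)
    rw [dS_bv] at this
    simp only [map_smulₛₗ, FType.orth_σ, smul_eq_mul] at this
    rw [mul_assoc, mul_left_comm, ← this, inv_mul_cancel_left₀ (d k).ne_zero]
  have h2 : ∀ (s : F) k, (plusF F 4).Q (s • bvP F 4 k) = 0 := fun s k => by
    rw [orth_Q_smul, obD4.hQ, Int.cast_zero, mul_zero]
  rw [mul_inv_eq_iff_eq_mul]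
  refine LinearEquiv.ext fun x => ?_
  rw [LinearEquiv.mul_apply, LinearEquiv.mul_apply, xD, xD, oX, oX, (obD4.ok chkD r _).apply, (obD4.ok chkD r _).apply, h2, h2]
  simp only [map_smulₛₗ, FType.orth_σ, FType.orth_ε, smul_eq_mul, map_sub, map_add, h1, dS_bv, RingHom.id_apply, zero_smul,
    add_zero, one_smul, smul_smul, Units.val_mul, Units.val_inv_eq_inv_val]
  congr 2
  · congr 1; field_simp
  · field_simp

omit hd

variable [Fintype F] {S : Type*} [Group S] (h : (plusF F 4).Good2) (C : Carr S (plusF F 4).E)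

theorem exists_iso [Nontrivial (S ⧸ Subgroup.center S)] : ∃ e : chevD4.group F ≃* S ⧸ Subgroup.center S,
    ∀ r t, e ((rsD4.adj F).x r t) = QuotientGroup.mk (C.e.symm ⟨xD r t, xD_mem r t⟩) := by
  haveI := StN.isSimpleGroup fullD4 ⟨0, by decide⟩ (rsD4.adj_gen F) (rsD4.adj_inj F) (StN.perfect1 good1D4 (rsD4.adj_gen F))
  let j : S →* _ := (plusF F 4).E.subtype.comp C.e.toMonoidHom
  have hj : Function.Injective j := Subtype.val_injective.comp C.e.injective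
  have hx : ∀ r t, j (C.e.symm ⟨xD r t, xD_mem r t⟩) = xD r t := fun r t => by simp [j]
  have hr := (obD4 (F := F)).rel12 chkD rsD4 repD
  refine rsD4.equiv_of_rel12' goodD4 ⟨fun r t u => hj ?_, fun r s h1 h2 t u => hj ?_⟩ ?_
  · rw [map_mul, hx, hx, hx]; exact hr.r1 r t u
  · simp only [map_mul, rsD4.map_cw, hx]; exact hr.r2 r s h1 h2 t u
  · rw [eq_top_iff]
    intro s _
    have h1 : j s ∈ (Subgroup.closure {g | ∃ r t, g = C.e.symm ⟨xD r t, xD_mem r t⟩}).map j := by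
      refine ((obD4 (F := F)).E_eq chkD).le.trans ((Subgroup.closure_le _).2 ?_) (C.e s).2
      rintro _ ⟨r, t, rfl⟩
      exact ⟨_, Subgroup.subset_closure ⟨r, t, rfl⟩, hx r t⟩
    exact (Subgroup.mem_map_iff_mem hj).1 h1

theorem exists_sim {e : chevD4.group F ≃* S ⧸ Subgroup.center S}
    (he : ∀ r t, e ((rsD4.adj F).x r t) = QuotientGroup.mk (C.e.symm ⟨xD r t, xD_mem r t⟩)) (χ : Ch chevD4 F) :
    ∃ g : (plusF F 4).Sim, LinearEquiv.det g.1 = (plusF F 4).mu (lin g.1) ^ 4 ∧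
      (h.mdl C).Φ ⟨lin g.1, g.2⟩ = MulAut.congr e (diagHom F goodD4 χ) := by
  let c : Fin 4 → Fˣ := fun i => rsD4.cv' χ (rsD4.sim i)
  let d : ℕ → Fˣ := fun k => [c 0 * c 1 * c 2, c 1 * c 2, c 2, 1, c 2 / c 3 / (c 0 * c 1 * c 2), c 2 / c 3 / (c 1 * c 2),
    c 2 / c 3 / c 2, c 2 / c 3].getD k 1
  have hd : ∀ i : Fin 4, d i * d (i + 4) = c 2 / c 3 := fun i => by
    fin_cases i <;> simp [d]
    exact (div_eq_mul_inv _ _).symm
  refine ⟨⟨_, dS_mem hd⟩, dS_det hd, ?_⟩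
  have h1 := (h.mdl_iff C (dS_mem hd)).2 rfl
  have h2 : ∀ r t, (h.mdl C).Φ ⟨_, dS_mem hd⟩ (e ((rsD4.adj F).x r t)) =
      e ((rsD4.adj F).x r ((d (aD r) * d (bD r) * (c 2 / c 3)⁻¹ : Fˣ) * t)) := fun r t => by
    rw [he, he]
    exact h1 _ _ (by simp only [MulEquiv.apply_symm_apply, cj_lin, dS_conj hd])
  have h3 : ((h.mdl C).Φ ⟨_, dS_mem hd⟩).toMonoidHom.comp e.toMonoidHom =
      e.toMonoidHom.comp (diagHom F goodD4 χ).toMonoidHom := by
    refine hom_ext_sim (rsD4.adj_gen F) (fun i t => (h2 _ t).trans ?_) fun i t => (h2 _ t).trans ?_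
    · rw [(simD i).1, (simD i).2.1]
      refine congrArg e ((congrArg (fun u : Fˣ => (rsD4.adj F).x _ (u * t)) (?_ : _ = c i)).trans (diagHom_x _ χ _ t).symm)
      revert i
      intro (i : Fin 4)
      fin_cases i <;> ext <;> simp [d] <;> field_simp
    · rw [(simD i).2.2.1, (simD i).2.2.2]
      refine congrArg e ((congrArg (fun u : Fˣ => (rsD4.adj F).x _ (u * t)) ((?_ : _ = (c i)⁻¹).trans
        (rsD4.cv'_neg χ _).symm)).trans (diagHom_x _ χ _ t).symm)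
      revert i
      intro (i : Fin 4)
      fin_cases i <;> ext <;> simp [d] <;> field_simp
  ext y
  obtain ⟨y, rfl⟩ := e.surjective y
  simpa using DFunLike.congr_fun h3 y

end OutE

end Cfsg.Agent.H5
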