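import Cfsg.Agent.H5.Sz8

set_option autoImplicit false

namespace Cfsg.Agent.H5.Suz
open MulAction H7

theorem exists_sq {G : Type*} [Group G] {T : Subgroup G} (h : Odd (Nat.card T)) {x : G} (hx : x ∈ T) : ∃ y ∈ T, y * y = x := by
  obtain ⟨n, e⟩ := h.of_dvd_nat (T.orderOf_dvd_natCard hx)
  exact ⟨_, pow_mem hx (n + 1), by rw [← pow_add, show n + 1 + (n + 1) = 2 * n + 1 + 1 by ring, pow_succ, ← e, pow_orderOf_eq_one, one_mul]⟩

theorem sq_fix {G Ω : Type*} [Group G] [MulAction G Ω] [Finite Ω] (hfix : ∀ g : G, g ≠ 1 → Nat.card (fixedBy Ω g) ≤ 2) {α : Ω}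
    {A : Subgroup G} (h : A ≠ ⊥) (hA : A ≤ stabilizer G α) {n : G} (hn : n ∈ Subgroup.normalizer (A : Set G)) :
    n * n ∈ stabilizer G α := by
  obtain ⟨⟨x, hx⟩, x1⟩ := Subgroup.ne_bot_iff_exists_ne_one.1 h
  have key : ∀ n ∈ Subgroup.normalizer (A : Set G), n • α ∈ fixedBy Ω x := fun n hn => by
    have : (n⁻¹ * x * n) • α = α := hA ((Subgroup.mem_normalizer_iff''.1 hn x).1 hx)
    rwa [mul_smul, mul_smul, inv_smul_eq_iff] at this
  by_contra h2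
  have h1 : n • α ≠ α := fun e => h2 (by rw [mem_stabilizer_iff, mul_smul, e, e])
  refine (hfix x fun e => x1 (Subtype.ext e)).not_gt ((Set.two_lt_ncard (Set.toFinite _)).2
    ⟨α, hA hx, _, key n hn, _, key _ (mul_mem hn hn), h1.symm, Ne.symm h2, fun e => h1 (smul_left_cancel n (e.trans (mul_smul ..))).symm⟩)

namespace SzG
variable {F : Type*} [Field F] {θ : F →+* F} {G Ω : Type*} [Group G] [MulAction G Ω] (Z : SzG θ G Ω) [CharP F 2]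

/-- the centre of the Sylow subgroup -/
def Zc (a : Ω) : Subgroup G := (Subgroup.center (Z.K a)).map (Z.K a).subtype

theorem mem_Zc_inf {g : G} : g ∈ Z.Zc Z.inf ↔ ∃ b, g = Z.u 0 b :=
  ⟨by rintro ⟨g, h, rfl⟩; exact Z.mem_center.1 h, by rintro ⟨b, rfl⟩; exact ⟨⟨_, Z.u_mem 0 b⟩, Z.mem_center.2 ⟨b, rfl⟩, rfl⟩⟩

theorem mem_Zc {a : Ω} {g : G} : g ∈ Z.Zc a ↔ g ∈ Z.K a ∧ g * g = 1 := by
  obtain ⟨Z', rfl⟩ := Z.exists_inf a
  refine Z'.mem_Zc_inf.trans ⟨?_, fun h => ?_⟩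
  · rintro ⟨b, rfl⟩
    exact ⟨Z'.u_mem _ _, Z'.u_invol.2 rfl⟩
  · obtain ⟨a, b, rfl⟩ := Z'.mem_K_inf.1 h.1
    obtain rfl := Z'.u_invol.1 h.2
    exact ⟨b, rfl⟩

theorem conj_mem_Zc {a : Ω} {g x : G} : x * g * x⁻¹ ∈ Z.Zc (x • a) ↔ g ∈ Z.Zc a := by
  simp [mem_Zc, conj_mem_K, conj_mul]

theorem Zc_comm {a : Ω} {g x : G} (hg : g ∈ Z.Zc a) (hx : x ∈ Z.K a) : x * g = g * x := by
  obtain ⟨g, h, rfl⟩ := hg
  exact congrArg Subtype.val (Subgroup.mem_center_iff.1 h ⟨x, hx⟩)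

theorem Zc_ne_bot (a : Ω) : Z.Zc a ≠ ⊥ := fun e => by
  obtain ⟨Z', rfl⟩ := Z.exists_inf a
  simpa [u_eq_one] using e.le (Z'.mem_Zc_inf.2 ⟨1, rfl⟩)

theorem norm_Zc (a : Ω) : Subgroup.normalizer (Z.Zc a : Set G) = stabilizer G a := by
  obtain ⟨⟨x, hx⟩, x1⟩ := Subgroup.ne_bot_iff_exists_ne_one.1 (Z.Zc_ne_bot a)
  refine Subgroup.ext fun g => ⟨fun h => Z.smul_eq_of_conj (Z.mem_Zc.1 hx).1 (fun e => x1 (Subtype.ext e))
    (Z.mem_Zc.1 ((Subgroup.mem_normalizer_iff.1 h _).1 hx)).1, fun h => Subgroup.mem_normalizer_iff.2 fun y => ?_⟩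
  rw [← Z.conj_mem_Zc (x := g) (a := a), mem_stabilizer_iff.1 h]

variable [Finite F]

theorem exists_sq_K {a : Ω} {g : G} (hg : g ∈ Z.Zc a) : ∃ x ∈ Z.K a, x * x = g := by
  obtain ⟨Z', rfl⟩ := Z.exists_inf a
  obtain ⟨b, rfl⟩ := Z'.mem_Zc_inf.1 hg
  obtain ⟨c, rfl⟩ := Finite.surjective_of_injective (f := fun x => x * θ x) (fun _ _ => Z.nrm_inj) b
  exact ⟨_, Z'.u_mem c 0, (pow_two _).symm.trans (Z'.u_sq c 0)⟩

variable [Finite G]

include Z in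
theorem stab_le {M : Subgroup G} {a : Ω} (h : ∀ n ∈ stabilizer G a, n * n ∈ M) : stabilizer G a ≤ M := by
  obtain ⟨b, hb⟩ := Z.exists_ne a
  have h1 : ∀ c, a ≠ c → St G a c ≤ M := fun c hc x hx => by
    obtain ⟨y, hy, rfl⟩ := exists_sq (Z.odd_St hc) hx
    exact h y hy.1
  obtain ⟨⟨x, hx⟩, x1⟩ := Subgroup.ne_bot_iff_exists_ne_one.1 (Z.St_ne_bot hb.symm)
  intro g hg
  obtain ⟨u, hu, k, hk, rfl⟩ := (Z.ker a).decomp hb hg
  obtain ⟨w, hw, rfl⟩ := (Z.ker a).exists_comm Z.z3 hb hx (fun e => x1 (Subtype.ext e)) hu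
  refine mul_mem (mul_mem (h1 (w • b) (smul_ne_of_fix hw.1 hb).symm (H7.mem_St.2 ⟨?_, ?_⟩)) (inv_mem (h1 b hb.symm hx))) (h1 b hb.symm hk)
  · exact mul_mem (mul_mem (mem_stabilizer_iff.2 hw.1) hx.1) (inv_mem (mem_stabilizer_iff.2 hw.1))
  · simp [mul_smul, mem_stabilizer_iff.1 hx.2]

variable [Finite Ω]

include Z in
theorem fixity {Ω' : Type*} [Finite Ω'] [MulAction G Ω'] [IsPretransitive G Ω']
    (hfix : ∀ g : G, g ≠ 1 → Nat.card (fixedBy Ω' g) ≤ 2) (hex : ∃ g : G, g ≠ 1 ∧ Nat.card (fixedBy Ω' g) = 2) :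
    (Nat.card Ω' = Nat.card F ^ 2 + 1 ∧ IsMultiplyPretransitive G Ω' 2) ∨
    (Nat.card Ω' = Nat.card F ^ 2 * (Nat.card F ^ 2 + 1) ∧ ∀ α : Ω', Nat.card (stabilizer G α) = Nat.card F - 1) := by
  obtain ⟨x, x1, h2⟩ := hex
  obtain ⟨⟨α, hα⟩, ⟨β, hβ⟩, hne, -⟩ := Nat.card_eq_two_iff.1 h2
  have := Z.trans
  have cz : ∀ {y n : G}, y ≠ 1 → y • α = α → n * y = y * n → n * n ∈ stabilizer G α := fun {y n} y1 hy e =>
    sq_fix hfix (A := Subgroup.zpowers y) (by simpa) (by simpa) (Subgroup.mem_normalizer_fintype (by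
      rintro _ ⟨k, rfl⟩
      rw [(Commute.zpow_right e k).eq, mul_inv_cancel_right]; exact ⟨k, rfl⟩))
  by_cases ho : Odd (Nat.card (stabilizer G α))
  · have h3 : ∀ y ∈ stabilizer G α, y ≠ 1 → ¬ Fpf Ω y := fun y hy y1 h => by
      have hT : Tor Ω _ := ⟨y, h, rfl⟩
      obtain ⟨z, hz, h4⟩ := Tor.exists_four Z hT
      have := sq_fix hfix (Tor.ne_bot Z hT) (fun w hw => by
        obtain ⟨v, hv, rfl⟩ := exists_sq (Tor.odd Z hT) hw
        exact cz y1 hy (Subgroup.mem_centralizer_singleton_iff.1 hv)) hz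
      exact pow_ne_one_of_lt_orderOf two_ne_zero (by omega) ((pow_two z).trans (eq_one_of_odd ho this (n := 1) (by
        rw [← pow_two, ← pow_mul, ← pow_orderOf_eq_one z, h4]; rfl)))
    have h4 : Nat.card (stabilizer G α) = Nat.card F - 1 := by
      refine Nat.dvd_antisymm (Nat.Coprime.dvd_of_dvd_mul_left (Nat.Coprime.mul_right ?_ (Nat.coprime_of_dvd fun p hp h1 h2 => ?_))
        (Z.cardG ▸ Subgroup.card_subgroup_dvd_card _)) ?_
      · obtain ⟨n, e⟩ := (Z.K_pgroup Z.inf).exists_card_eq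
        exact Z.card_K _ ▸ e ▸ (Nat.coprime_two_right.2 ho).pow_right n
      · obtain ⟨y, hy, e, y1⟩ := exists_ord hp h1
        exact h3 y hy y1 ((Z.fpf_iff y1).2 (e ▸ h2))
      rcases Z.tri x with ⟨a, ha⟩ | ⟨a, b, hab, ha⟩ | h
      · exact (x1 (eq_one_of_odd ho hα (n := 2) ha.2)).elim
      · refine Z.card_St hab ▸ Subgroup.card_dvd_of_le fun w hw => ?_
        obtain ⟨v, hv, rfl⟩ := exists_sq (Z.odd_St hab) hw
        exact cz x1 hα (Z.St_comm hab hv ha)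
      · exact (h3 x hα x1 h).elim
    have h5 : ∀ γ : Ω', Nat.card Ω' * Nat.card (stabilizer G γ) = Nat.card G := fun γ => by
      rw [← index_stabilizer_of_transitive G γ, Subgroup.index_mul_card]
    have := Z.q_ge
    exact .inr ⟨Nat.eq_of_mul_eq_mul_right (by omega : 0 < Nat.card F - 1) (by rw [← Z.cardG, ← h5 α, h4]), fun γ =>
      h4 ▸ Nat.eq_of_mul_eq_mul_left (@Nat.card_pos _ ⟨α⟩ _) ((h5 γ).trans (h5 α).symm)⟩
  obtain ⟨i, hi, i2, i1⟩ := exists_invol ho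
  obtain ⟨a, ha⟩ := Z.invol_mem_K i2
  have h3 := Z.stab_le (a := a) fun n hn => sq_fix hfix (α := α) (Z.Zc_ne_bot a) (fun g hg => by
    obtain ⟨y, hy, rfl⟩ := Z.exists_sq_K hg
    exact cz i1 hi (Z.Zc_comm (Z.mem_Zc.2 ⟨ha, i2⟩) hy)) (Z.norm_Zc a ▸ hn)
  have h4 := ((Z.coatom a).le_iff.1 h3).resolve_left fun e => by
    obtain ⟨g, rfl⟩ := exists_smul_eq G α β
    exact hne (Subtype.ext (show g ∈ stabilizer G α from e ▸ trivial).symm)
  have h5 : ∀ g g' : G, g • α = g' • α ↔ g • a = g' • a := fun g g' => by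
    rw [← inv_smul_eq_iff, ← mul_smul, ← mem_stabilizer_iff, h4, mem_stabilizer_iff, mul_smul, inv_smul_eq_iff]
  refine .inl ⟨by rw [← index_stabilizer_of_transitive G α, h4, index_stabilizer_of_transitive, Z.cardΩ],
    is_two_pretransitive_iff.2 fun {c d c' d'} h h' => ?_⟩
  obtain ⟨g1, rfl⟩ := exists_smul_eq G α c
  obtain ⟨g2, rfl⟩ := exists_smul_eq G α d
  obtain ⟨g3, rfl⟩ := exists_smul_eq G α c'
  obtain ⟨g4, rfl⟩ := exists_smul_eq G α d'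
  simpa only [← mul_smul, h5] using mt_two Z.z3.two ((h5 _ _).not.1 h) ((h5 _ _).not.1 h')

end SzG

end Cfsg.Agent.H5.Suz
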