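import Cfsg.Agent.H5.All
import Cfsg.Agent.H5.Poin

set_option autoImplicit false
set_option maxRecDepth 100000

namespace Cfsg.Agent.H5

open Cfsg.Lie

theorem RS.kerData_of {D : ChevalleyDatum} (R : RS D) (m d : ℕ) (u v M M' : ℕ → ℕ → ℤ)
    (h : (∀ (a : Fin m) (j : I D), (d : ℤ) ∣ ∑ i : I D, u a i * R.car i (R.sim j)) ∧
      (∀ a b : Fin m, (d : ℤ) ∣ ∑ i : I D, u a i * v b i - if a = b then 1 else 0) ∧
      (∀ k i : I D, (if i = k then 1 else 0) = ∑ a : Fin m, v a i * u a k + ∑ j : I D, R.car i (R.sim j) * M k j) ∧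
      ∀ (a : Fin m) (i : I D), d * v a i = ∑ j : I D, R.car i (R.sim j) * M' a j) :
    R.KerData m d (fun a i => u a i) (fun a i => v a i) :=
  ⟨h.1, h.2.1, fun k => ⟨fun j => M k j, h.2.2.1 k⟩, fun a => ⟨fun j => M' a j, h.2.2.2 a⟩⟩

theorem RS.smul_prod_sw {D : ChevalleyDatum} (R : RS D) (l : List (I D)) (r : Φ D) :
    (l.map R.sw).prod • r = l.foldr R.ref r := by
  induction l with
  | nil => simp
  | cons i l ih => simp [mul_smul, ih]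

def RS.CoxChk {D : ChevalleyDatum} (R : RS D) (M : I D → I D → ℕ) : Prop := ∀ i j, 0 < M i j ∧
    (∀ k, (fun r => R.ref i (R.ref j r))^[M i j] (R.sim k) = R.sim k) ∧
    ∀ n < M i j, 0 < n → (fun r => R.ref i (R.ref j r))^[n] (R.sim i) ≠ R.sim i

instance RS.instDecCoxChk {D : ChevalleyDatum} (R : RS D) (M : I D → I D → ℕ) : Decidable (R.CoxChk M) := by
  unfold RS.CoxChk; infer_instance

theorem RS.card_W {D : ChevalleyDatum} (R : RS D) : Nat.card R.W = R.Ps (List.range D.rank) 1 := by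
  simp [R.Ps_range]

theorem goodB2 : rsB2.Good := rsB2.good_of (fun i => (([1, 2] : List ℕ).getD i 0)) (fun i => (([7, 7] : List ℕ).getD i 0))
  (fun i j => ((([[-7, 1], [2, -3]] : List (List ℤ)).getD i []).getD j 0)) (by decide +kernel)
theorem fullB2 : rsB2.Full := ⟨⟨7, by decide +kernel⟩, by decide +kernel⟩
theorem good2B2 : rsB2.Good2 := fun i => ((by decide +kernel : ∀ i : I chevB2,
    (∃ s, rsB2.pr s (rsB2.sim i) = 1 ∨ rsB2.pr s (rsB2.sim i) = -1) ∨ ∃ a b : Φ chevB2, b ≠ a ∧ b ≠ rsB2.neg a ∧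
      ∃ ε ∈ [(1 : ℤ), -1], ∃ c ∈ rsB2.tm a b, rsB2.tm a b = [c, (rsB2.sim i, ε, 2, 1)] ∧
        ∃ s, rsB2.pr s c.1 = 1 ∨ rsB2.pr s c.1 = -1) i).imp id
  fun ⟨a, b, h1, h2, ε, hε, c, _, h⟩ => ⟨a, b, h1, h2, ε, hε, c, h⟩
theorem coxB2 : ∃ e : rsB2.W ≃* (CoxeterMatrix.B 2).Group, ∀ i, e (rsB2.sw i) = (CoxeterMatrix.B 2).simple i :=
  rsB2.exists_cox (CoxeterMatrix.B 2) (@of_decide_eq_true _ (rsB2.instDecCoxChk _) (by decide +kernel))
theorem coxEltB2 : orderOf ((List.finRange 2).map rsB2.sw).prod = 4 :=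
  rsB2.orderOf_eq_of _ _ (rsB2.smul_prod_sw _) _ (by decide) (by decide +kernel) (by decide +kernel)
def kuB2 : ℕ → ℕ → ℤ := fun i j => ((([[1, 0]] : List (List ℤ)).getD i []).getD j 0)
def kvB2 : ℕ → ℕ → ℤ := fun i j => ((([[1, 0]] : List (List ℤ)).getD i []).getD j 0)
theorem kerB2 : rsB2.KerData 1 2 (fun a i => kuB2 a i) (fun a i => kvB2 a i) :=
  rsB2.kerData_of _ _ _ _ (fun i j => ((([[0, 0], [1, 1]] : List (List ℤ)).getD i []).getD j 0))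
    (fun i j => ((([[2, 1]] : List (List ℤ)).getD i []).getD j 0)) (by decide +kernel)
theorem psB2_0 (q : ℕ) : rsB2.Ps [0, 1] q = horner q [1, 1, 1, 1] * rsB2.Ps [0] q :=
  rsB2.Ps_step (x0 := 6) (e := fld 0x1020000030400 8 255) (by decide +kernel) q
theorem psB2_1 (q : ℕ) : rsB2.Ps [0] q = horner q [1, 1] * rsB2.Ps [] q :=
  rsB2.Ps_step (x0 := 3) (e := fld 0x1000002 8 255) (by decide +kernel) q
theorem cardWB2 : Nat.card rsB2.W = 8 := by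
  rw [RS.card_W, show List.range chevB2.rank = [0, 1] from rfl, psB2_0, psB2_1, RS.Ps_nil]; decide +kernel
theorem poinB2 {q : ℕ} (hq : 1 ≤ q) : (q - 1) ^ 2 * ∑ w, q ^ rsB2.ex.len w = (q ^ 2 - 1) * (q ^ 4 - 1) := by
  rw [← RS.Ps_range, show List.range chevB2.rank = [0, 1] from rfl, psB2_0, psB2_1, RS.Ps_nil]
  apply Nat.cast_injective (R := ℤ)
  simp only [horner]
  push_cast [Nat.cast_sub hq, Nat.cast_sub (Nat.one_le_pow _ _ hq)]
  ring

theorem goodG2 : rsG2.Good := rsG2.good_of (fun i => (([2, 1] : List ℕ).getD i 0)) (fun i => (([10, 11] : List ℕ).getD i 0))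
  (fun i j => ((([[-7, 1], [1, -2]] : List (List ℤ)).getD i []).getD j 0)) (by decide +kernel)
theorem fullG2 : rsG2.Full := ⟨⟨11, by decide +kernel⟩, by decide +kernel⟩
theorem good2G2 : rsG2.Good2 := fun i => Or.inl ((by decide +kernel : ∀ i : I chevG2,
    ∃ s, rsG2.pr s (rsG2.sim i) = 1 ∨ rsG2.pr s (rsG2.sim i) = -1) i)
theorem coxG2 : ∃ e : rsG2.W ≃* CoxeterMatrix.G₂.Group, ∀ i, e (rsG2.sw i) = CoxeterMatrix.G₂.simple i :=
  rsG2.exists_cox CoxeterMatrix.G₂ (@of_decide_eq_true _ (rsG2.instDecCoxChk _) (by decide +kernel))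
theorem coxEltG2 : orderOf ((List.finRange 2).map rsG2.sw).prod = 6 :=
  rsG2.orderOf_eq_of _ _ (rsG2.smul_prod_sw _) _ (by decide) (by decide +kernel) (by decide +kernel)
def kuG2 : ℕ → ℕ → ℤ := fun i j => ((([] : List (List ℤ)).getD i []).getD j 0)
def kvG2 : ℕ → ℕ → ℤ := fun i j => ((([] : List (List ℤ)).getD i []).getD j 0)
theorem kerG2 : rsG2.KerData 0 1 (fun a i => kuG2 a i) (fun a i => kvG2 a i) :=
  rsG2.kerData_of _ _ _ _ (fun i j => ((([[2, 1], [3, 2]] : List (List ℤ)).getD i []).getD j 0))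
    (fun i j => ((([] : List (List ℤ)).getD i []).getD j 0)) (by decide +kernel)
theorem psG2_0 (q : ℕ) : rsG2.Ps [0, 1] q = horner q [1, 1, 1, 1, 1, 1] * rsG2.Ps [1] q :=
  rsG2.Ps_step (x0 := 9) (e := fld 0x1020300000405060000 8 255) (by decide +kernel) q
theorem psG2_1 (q : ℕ) : rsG2.Ps [1] q = horner q [1, 1] * rsG2.Ps [] q :=
  rsG2.Ps_step (x0 := 1) (e := fld 0x102 8 255) (by decide +kernel) q
theorem cardWG2 : Nat.card rsG2.W = 12 := by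
  rw [RS.card_W, show List.range chevG2.rank = [0, 1] from rfl, psG2_0, psG2_1, RS.Ps_nil]; decide +kernel
theorem poinG2 {q : ℕ} (hq : 1 ≤ q) : (q - 1) ^ 2 * ∑ w, q ^ rsG2.ex.len w = (q ^ 2 - 1) * (q ^ 6 - 1) := by
  rw [← RS.Ps_range, show List.range chevG2.rank = [0, 1] from rfl, psG2_0, psG2_1, RS.Ps_nil]
  apply Nat.cast_injective (R := ℤ)
  simp only [horner]
  push_cast [Nat.cast_sub hq, Nat.cast_sub (Nat.one_le_pow _ _ hq)]
  ring

theorem goodD4 : rsD4.Good := rsD4.good_of (fun i => (([6, 1, 3, 2] : List ℕ).getD i 0)) (fun i => (([22, 23, 22, 22] : List ℕ).getD i 0))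
  (fun i j => ((([[-7, 1, 0, 0], [3, -2, 0, 0], [1, 0, -7, 0], [1, 0, 0, -7]] : List (List ℤ)).getD i []).getD j 0)) (by decide +kernel)
theorem fullD4 : rsD4.Full := ⟨⟨23, by decide +kernel⟩, by decide +kernel⟩
theorem good1D4 : rsD4.Good1 := rsD4.good1_of (fun i => (([6, 1, 3, 2] : List ℕ).getD i 0)) (fun i => (([22, 23, 22, 22] : List ℕ).getD i 0)) (by decide +kernel)
theorem coxD4 : ∃ e : rsD4.W ≃* coxeterD4.Group, ∀ i, e (rsD4.sw i) = coxeterD4.simple i :=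
  rsD4.exists_cox coxeterD4 (@of_decide_eq_true _ (rsD4.instDecCoxChk _) (by decide +kernel))
theorem coxEltD4 : orderOf ((List.finRange 4).map rsD4.sw).prod = 6 :=
  rsD4.orderOf_eq_of _ _ (rsD4.smul_prod_sw _) _ (by decide) (by decide +kernel) (by decide +kernel)
def kuD4 : ℕ → ℕ → ℤ := fun i j => ((([[1, 0, 0, 1], [0, 0, 1, 1]] : List (List ℤ)).getD i []).getD j 0)
def kvD4 : ℕ → ℕ → ℤ := fun i j => ((([[1, 0, 0, 0], [0, 0, 1, 0]] : List (List ℤ)).getD i []).getD j 0)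
theorem kerD4 : rsD4.KerData 2 2 (fun a i => kuD4 a i) (fun a i => kvD4 a i) :=
  rsD4.kerData_of _ _ _ _ (fun i j => ((([[0, 0, 0, 0], [1, 2, 1, 1], [0, 0, 0, 0], [-1, -1, -1, 0]] : List (List ℤ)).getD i []).getD j 0))
    (fun i j => ((([[2, 2, 1, 1], [1, 2, 2, 1]] : List (List ℤ)).getD i []).getD j 0)) (by decide +kernel)
theorem psD4_0 (q : ℕ) : rsD4.Ps [0, 1, 2, 3] q = horner q [1, 1, 3, 3, 4, 4, 3, 3, 1, 1] * rsD4.Ps [0, 2, 3] q :=
  rsD4.Ps_step (x0 := 23) (e := fld 0x1020303040503040405050506060607070806070808090a 8 255) (by decide +kernel) q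
theorem psD4_1 (q : ℕ) : rsD4.Ps [0, 2, 3] q = horner q [1, 1] * rsD4.Ps [0, 2] q :=
  rsD4.Ps_step (x0 := 12) (e := fld 0x1020000000000000000000000 8 255) (by decide +kernel) q
theorem psD4_2 (q : ℕ) : rsD4.Ps [0, 2] q = horner q [1, 1] * rsD4.Ps [0] q :=
  rsD4.Ps_step (x0 := 13) (e := fld 0x100000200000000000000000000 8 255) (by decide +kernel) q
theorem psD4_3 (q : ℕ) : rsD4.Ps [0] q = horner q [1, 1] * rsD4.Ps [] q :=
  rsD4.Ps_step (x0 := 6) (e := fld 0x1000000000200 8 255) (by decide +kernel) q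
theorem cardWD4 : Nat.card rsD4.W = 192 := by
  rw [RS.card_W, show List.range chevD4.rank = [0, 1, 2, 3] from rfl, psD4_0, psD4_1, psD4_2, psD4_3, RS.Ps_nil]; decide +kernel
theorem poinD4 {q : ℕ} (hq : 1 ≤ q) : (q - 1) ^ 4 * ∑ w, q ^ rsD4.ex.len w = (q ^ 2 - 1) * (q ^ 4 - 1) * (q ^ 4 - 1) * (q ^ 6 - 1) := by
  rw [← RS.Ps_range, show List.range chevD4.rank = [0, 1, 2, 3] from rfl, psD4_0, psD4_1, psD4_2, psD4_3, RS.Ps_nil]
  apply Nat.cast_injective (R := ℤ)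
  simp only [horner]
  push_cast [Nat.cast_sub hq, Nat.cast_sub (Nat.one_le_pow _ _ hq)]
  ring

theorem goodF4 : rsF4.Good := rsF4.good_of (fun i => (([7, 8, 2, 1] : List ℕ).getD i 0)) (fun i => (([44, 40, 46, 47] : List ℕ).getD i 0))
  (fun i j => ((([[-7, 3, 0, 0], [5, -2, 0, 0], [4, 0, -3, 0], [2, 0, 0, -3]] : List (List ℤ)).getD i []).getD j 0)) (by decide +kernel)
theorem fullF4 : rsF4.Full := ⟨⟨47, by decide +kernel⟩, by decide +kernel⟩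
theorem good1F4 : rsF4.Good1 := rsF4.good1_of (fun i => (([7, 8, 2, 1] : List ℕ).getD i 0)) (fun i => (([44, 40, 46, 47] : List ℕ).getD i 0)) (by decide +kernel)
theorem coxF4 : ∃ e : rsF4.W ≃* CoxeterMatrix.F₄.Group, ∀ i, e (rsF4.sw i) = CoxeterMatrix.F₄.simple i :=
  rsF4.exists_cox CoxeterMatrix.F₄ (@of_decide_eq_true _ (rsF4.instDecCoxChk _) (by decide +kernel))
theorem coxEltF4 : orderOf ((List.finRange 4).map rsF4.sw).prod = 12 :=
  rsF4.orderOf_eq_of _ _ (rsF4.smul_prod_sw _) _ (by decide) (by decide +kernel) (by decide +kernel)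
def kuF4 : ℕ → ℕ → ℤ := fun i j => ((([] : List (List ℤ)).getD i []).getD j 0)
def kvF4 : ℕ → ℕ → ℤ := fun i j => ((([] : List (List ℤ)).getD i []).getD j 0)
theorem kerF4 : rsF4.KerData 0 1 (fun a i => kuF4 a i) (fun a i => kvF4 a i) :=
  rsF4.kerData_of _ _ _ _ (fun i j => ((([[2, 3, 2, 1], [3, 6, 4, 2], [4, 8, 6, 3], [2, 4, 3, 2]] : List (List ℤ)).getD i []).getD j 0))
    (fun i j => ((([] : List (List ℤ)).getD i []).getD j 0)) (by decide +kernel)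
theorem psF4_0 (q : ℕ) : rsF4.Ps [0, 1, 2, 3] q = horner q [1, 1, 1, 1, 2, 2, 2, 2, 2, 2, 2, 2, 1, 1, 1, 1] * rsF4.Ps [1, 2, 3] q :=
  rsF4.Ps_step (x0 := 44) (e := fld 0x10000000203040505060708000000060708000000000000090a0b000000090a0b0c0c0d0e0f00000010000000 8 255) (by decide +kernel) q
theorem psF4_1 (q : ℕ) : rsF4.Ps [1, 2, 3] q = horner q [1, 1, 1, 1, 1, 1] * rsF4.Ps [1, 2] q :=
  rsF4.Ps_step (x0 := 6) (e := fld 0x1020300040506 8 255) (by decide +kernel) q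
theorem psF4_2 (q : ℕ) : rsF4.Ps [1, 2] q = horner q [1, 1, 1, 1] * rsF4.Ps [1] q :=
  rsF4.Ps_step (x0 := 5) (e := fld 0x10200030400 8 255) (by decide +kernel) q
theorem psF4_3 (q : ℕ) : rsF4.Ps [1] q = horner q [1, 1] * rsF4.Ps [] q :=
  rsF4.Ps_step (x0 := 4) (e := fld 0x100020000 8 255) (by decide +kernel) q
theorem cardWF4 : Nat.card rsF4.W = 1152 := by
  rw [RS.card_W, show List.range chevF4.rank = [0, 1, 2, 3] from rfl, psF4_0, psF4_1, psF4_2, psF4_3, RS.Ps_nil]; decide +kernel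
theorem poinF4 {q : ℕ} (hq : 1 ≤ q) : (q - 1) ^ 4 * ∑ w, q ^ rsF4.ex.len w = (q ^ 2 - 1) * (q ^ 6 - 1) * (q ^ 8 - 1) * (q ^ 12 - 1) := by
  rw [← RS.Ps_range, show List.range chevF4.rank = [0, 1, 2, 3] from rfl, psF4_0, psF4_1, psF4_2, psF4_3, RS.Ps_nil]
  apply Nat.cast_injective (R := ℤ)
  simp only [horner]
  push_cast [Nat.cast_sub hq, Nat.cast_sub (Nat.one_le_pow _ _ hq)]
  ring

theorem goodE6 : rsE6.Good := rsE6.good_of (fun i => (([16, 1, 5, 2, 3, 4] : List ℕ).getD i 0)) (fun i => (([66, 71, 69, 70, 69, 68] : List ℕ).getD i 0))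
  (fun i j => ((([[-7, 1, 0, 0, 0, 0], [3, -2, 0, 0, 0, 0], [3, 0, -2, 0, 0, 0], [5, 0, 0, -2, 0, 0], [3, 0, 0, 0, -2, 0], [1, 0, 0, 0, 0, -7]] : List (List ℤ)).getD i []).getD j 0)) (by decide +kernel)
theorem fullE6 : rsE6.Full := ⟨⟨71, by decide +kernel⟩, by decide +kernel⟩
theorem good1E6 : rsE6.Good1 := rsE6.good1_of (fun i => (([16, 1, 5, 2, 3, 4] : List ℕ).getD i 0)) (fun i => (([66, 71, 69, 70, 69, 68] : List ℕ).getD i 0)) (by decide +kernel)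
theorem coxE6 : ∃ e : rsE6.W ≃* CoxeterMatrix.E₆.Group, ∀ i, e (rsE6.sw i) = CoxeterMatrix.E₆.simple i :=
  rsE6.exists_cox CoxeterMatrix.E₆ (@of_decide_eq_true _ (rsE6.instDecCoxChk _) (by decide +kernel))
theorem coxEltE6 : orderOf ((List.finRange 6).map rsE6.sw).prod = 12 :=
  rsE6.orderOf_eq_of _ _ (rsE6.smul_prod_sw _) _ (by decide) (by decide +kernel) (by decide +kernel)
def kuE6 : ℕ → ℕ → ℤ := fun i j => ((([[1, 0, 2, 0, 1, 2]] : List (List ℤ)).getD i []).getD j 0)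
def kvE6 : ℕ → ℕ → ℤ := fun i j => ((([[1, 0, 0, 0, 0, 0]] : List (List ℤ)).getD i []).getD j 0)
theorem kerE6 : rsE6.KerData 1 3 (fun a i => kuE6 a i) (fun a i => kvE6 a i) :=
  rsE6.kerData_of _ _ _ _ (fun i j => ((([[0, 0, 0, 0, 0, 0], [1, 2, 2, 3, 2, 1], [-1, 0, 0, 0, 0, 0], [2, 3, 4, 6, 4, 2], [0, 1, 1, 2, 2, 1], [-2, -1, -2, -2, -1, 0]] : List (List ℤ)).getD i []).getD j 0))
    (fun i j => ((([[4, 3, 5, 6, 4, 2]] : List (List ℤ)).getD i []).getD j 0)) (by decide +kernel)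
theorem psE6_0 (q : ℕ) : rsE6.Ps [0, 1, 2, 3, 4, 5] q = horner q [1, 1, 1, 2, 3, 3, 4, 5, 5, 5, 6, 6, 5, 5, 5, 4, 3, 3, 2, 1, 1, 1] * rsE6.Ps [0, 2, 3, 4, 5] q :=
  rsE6.Ps_step (x0 := 71) (e := fld 0x1020304050405060607080708090a0b05060707080908090a0b08090a0b090a0b0a0b0b0c0c0d0c0d0e0c0d0e0f0c0d0e0f0e0f101011120c0d0e0f100f10111112131213141516 8 255) (by decide +kernel) q
theorem psE6_1 (q : ℕ) : rsE6.Ps [0, 2, 3, 4, 5] q = horner q [1, 1, 2, 3, 3, 3, 3, 2, 1, 1] * rsE6.Ps [0, 2, 4, 5] q :=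
  rsE6.Ps_step (x0 := 25) (e := fld 0x102030403040505060700000000000405060607080708090a00 8 255) (by decide +kernel) q
theorem psE6_2 (q : ℕ) : rsE6.Ps [0, 2, 4, 5] q = horner q [1, 2, 2, 1] * rsE6.Ps [0, 2] q :=
  rsE6.Ps_step (x0 := 38) (e := fld 0x10202030304000000000000000000000000000000000000000000000000000000000000000000 8 255) (by decide +kernel) q
theorem psE6_3 (q : ℕ) : rsE6.Ps [0, 2] q = horner q [1, 1, 1] * rsE6.Ps [2] q :=
  rsE6.Ps_step (x0 := 16) (e := fld 0x100000000000000000000020000030000 8 255) (by decide +kernel) q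
theorem psE6_4 (q : ℕ) : rsE6.Ps [2] q = horner q [1, 1] * rsE6.Ps [] q :=
  rsE6.Ps_step (x0 := 5) (e := fld 0x10000020000 8 255) (by decide +kernel) q
theorem cardWE6 : Nat.card rsE6.W = 51840 := by
  rw [RS.card_W, show List.range chevE6.rank = [0, 1, 2, 3, 4, 5] from rfl, psE6_0, psE6_1, psE6_2, psE6_3, psE6_4, RS.Ps_nil]; decide +kernel
theorem poinE6 {q : ℕ} (hq : 1 ≤ q) : (q - 1) ^ 6 * ∑ w, q ^ rsE6.ex.len w = (q ^ 2 - 1) * (q ^ 5 - 1) * (q ^ 6 - 1) * (q ^ 8 - 1) * (q ^ 9 - 1) * (q ^ 12 - 1) := by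
  rw [← RS.Ps_range, show List.range chevE6.rank = [0, 1, 2, 3, 4, 5] from rfl, psE6_0, psE6_1, psE6_2, psE6_3, psE6_4, RS.Ps_nil]
  apply Nat.cast_injective (R := ℤ)
  simp only [horner]
  push_cast [Nat.cast_sub hq, Nat.cast_sub (Nat.one_le_pow _ _ hq)]
  ring

theorem goodE7 : rsE7.Good := rsE7.good_of (fun i => (([1, 7, 2, 3, 4, 5, 6] : List ℕ).getD i 0)) (fun i => (([125, 122, 124, 123, 122, 121, 120] : List ℕ).getD i 0))
  (fun i j => ((([[-7, 4, 0, 0, 0, 0, 0], [3, -2, 0, 0, 0, 0, 0], [5, 0, -2, 0, 0, 0, 0], [7, 0, 0, -2, 0, 0, 0], [5, 0, 0, 0, -2, 0, 0], [3, 0, 0, 0, 0, -2, 0], [1, 0, 0, 0, 0, 0, -7]] : List (List ℤ)).getD i []).getD j 0)) (by decide +kernel)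
theorem fullE7 : rsE7.Full := ⟨⟨125, by decide +kernel⟩, by decide +kernel⟩
theorem good1E7 : rsE7.Good1 := rsE7.good1_of (fun i => (([1, 7, 2, 3, 4, 5, 6] : List ℕ).getD i 0)) (fun i => (([125, 122, 124, 123, 122, 121, 120] : List ℕ).getD i 0)) (by decide +kernel)
theorem coxE7 : ∃ e : rsE7.W ≃* CoxeterMatrix.E₇.Group, ∀ i, e (rsE7.sw i) = CoxeterMatrix.E₇.simple i :=
  rsE7.exists_cox CoxeterMatrix.E₇ (@of_decide_eq_true _ (rsE7.instDecCoxChk _) (by decide +kernel))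
theorem coxEltE7 : orderOf ((List.finRange 7).map rsE7.sw).prod = 18 :=
  rsE7.orderOf_eq_of _ _ (rsE7.smul_prod_sw _) _ (by decide) (by decide +kernel) (by decide +kernel)
def kuE7 : ℕ → ℕ → ℤ := fun i j => ((([[0, 1, 0, 0, 1, 0, 1]] : List (List ℤ)).getD i []).getD j 0)
def kvE7 : ℕ → ℕ → ℤ := fun i j => ((([[0, 1, 0, 0, 0, 0, 0]] : List (List ℤ)).getD i []).getD j 0)
theorem kerE7 : rsE7.KerData 1 2 (fun a i => kuE7 a i) (fun a i => kvE7 a i) :=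
  rsE7.kerData_of _ _ _ _ (fun i j => ((([[2, 2, 3, 4, 3, 2, 1], [0, 0, 0, 0, 0, 0, 0], [3, 4, 6, 8, 6, 4, 2], [4, 6, 8, 12, 9, 6, 3], [1, 1, 2, 3, 3, 2, 1], [2, 3, 4, 6, 5, 4, 2], [-1, -2, -2, -3, -2, -1, 0]] : List (List ℤ)).getD i []).getD j 0))
    (fun i j => ((([[4, 7, 8, 12, 9, 6, 3]] : List (List ℤ)).getD i []).getD j 0)) (by decide +kernel)
theorem psE7_0 (q : ℕ) : rsE7.Ps [0, 1, 2, 3, 4, 5, 6] q = horner q [1, 1, 1, 1, 2, 2, 3, 3, 4, 4, 5, 5, 6, 6, 6, 6, 7, 7, 6, 6, 6, 6, 5, 5, 4, 4, 3, 3, 2, 2, 1, 1, 1, 1] * rsE7.Ps [1, 2, 3, 4, 5, 6] q :=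
  rsE7.Ps_step (x0 := 125) (e := fld 0x102030405060705060708070809090a0b08090a0a0b0c0b0c0d0e0c0d0e0f1011090a0b0b0c0d0c0d0e0f0d0e0f10110d0e0f10110e0f10110f101110111112121312131412131415121314151612131415161415161716171818191a12131415161715161718171819191a1b18191a1a1b1c1b1c1d1e1c1d1e1f202122 8 255) (by decide +kernel) q
theorem psE7_1 (q : ℕ) : rsE7.Ps [1, 2, 3, 4, 5, 6] q = horner q [1, 1, 1, 2, 2, 3, 3, 3, 3, 3, 3, 2, 2, 1, 1, 1] * rsE7.Ps [1, 3, 4, 5, 6] q :=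
  rsE7.Ps_step (x0 := 32) (e := fld 0x102030405060405060706070808090a070809090a0b0a0b0c0d0b0c0d0e0f1000 8 255) (by decide +kernel) q
theorem psE7_2 (q : ℕ) : rsE7.Ps [1, 3, 4, 5, 6] q = horner q [1, 1, 2, 2, 3, 2, 2, 1, 1] * rsE7.Ps [1, 3, 4, 6] q :=
  rsE7.Ps_step (x0 := 16) (e := fld 0x102030304050405060705060708090000 8 255) (by decide +kernel) q
theorem psE7_3 (q : ℕ) : rsE7.Ps [1, 3, 4, 6] q = horner q [1, 1] * rsE7.Ps [1, 3, 4] q :=
  rsE7.Ps_step (x0 := 63) (e := fld 0x1020000000000000000000000000000000000000000000000000000000000000000000000000000000000000000000000000000000000000000000000000000 8 255) (by decide +kernel) q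
theorem psE7_4 (q : ℕ) : rsE7.Ps [1, 3, 4] q = horner q [1, 1, 1, 1] * rsE7.Ps [1, 3] q :=
  rsE7.Ps_step (x0 := 14) (e := fld 0x10002000003000000040000000000 8 255) (by decide +kernel) q
theorem psE7_5 (q : ℕ) : rsE7.Ps [1, 3] q = horner q [1, 1, 1] * rsE7.Ps [3] q :=
  rsE7.Ps_step (x0 := 7) (e := fld 0x100000002030000 8 255) (by decide +kernel) q
theorem psE7_6 (q : ℕ) : rsE7.Ps [3] q = horner q [1, 1] * rsE7.Ps [] q :=
  rsE7.Ps_step (x0 := 3) (e := fld 0x1020000 8 255) (by decide +kernel) q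
theorem cardWE7 : Nat.card rsE7.W = 2903040 := by
  rw [RS.card_W, show List.range chevE7.rank = [0, 1, 2, 3, 4, 5, 6] from rfl, psE7_0, psE7_1, psE7_2, psE7_3, psE7_4, psE7_5, psE7_6, RS.Ps_nil]; decide +kernel
theorem poinE7 {q : ℕ} (hq : 1 ≤ q) : (q - 1) ^ 7 * ∑ w, q ^ rsE7.ex.len w = (q ^ 2 - 1) * (q ^ 6 - 1) * (q ^ 8 - 1) * (q ^ 10 - 1) * (q ^ 12 - 1) * (q ^ 14 - 1) * (q ^ 18 - 1) := by
  rw [← RS.Ps_range, show List.range chevE7.rank = [0, 1, 2, 3, 4, 5, 6] from rfl, psE7_0, psE7_1, psE7_2, psE7_3, psE7_4, psE7_5, psE7_6, RS.Ps_nil]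
  apply Nat.cast_injective (R := ℤ)
  simp only [horner]
  push_cast [Nat.cast_sub hq, Nat.cast_sub (Nat.one_le_pow _ _ hq)]
  ring

theorem goodE8 : rsE8.Good := rsE8.good_of (fun i => (([14, 7, 6, 5, 4, 3, 2, 1] : List ℕ).getD i 0)) (fun i => (([233, 234, 234, 235, 236, 237, 238, 239] : List ℕ).getD i 0))
  (fun i j => ((([[-7, 3, 0, 0, 0, 0, 0, 0], [4, -3, 0, 0, 0, 0, 0, 0], [5, 0, -3, 0, 0, 0, 0, 0], [0, 7, 0, -4, 0, 0, 0, 0], [7, 0, 0, 0, -3, 0, 0, 0], [5, 0, 0, 0, 0, -3, 0, 0], [4, 0, 0, 0, 0, 0, -3, 0], [2, 0, 0, 0, 0, 0, 0, -3]] : List (List ℤ)).getD i []).getD j 0)) (by decide +kernel)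
theorem fullE8 : rsE8.Full := ⟨⟨239, by decide +kernel⟩, by decide +kernel⟩
theorem good1E8 : rsE8.Good1 := rsE8.good1_of (fun i => (([14, 7, 6, 5, 4, 3, 2, 1] : List ℕ).getD i 0)) (fun i => (([233, 234, 234, 235, 236, 237, 238, 239] : List ℕ).getD i 0)) (by decide +kernel)
theorem coxE8 : ∃ e : rsE8.W ≃* CoxeterMatrix.E₈.Group, ∀ i, e (rsE8.sw i) = CoxeterMatrix.E₈.simple i :=
  rsE8.exists_cox CoxeterMatrix.E₈ (@of_decide_eq_true _ (rsE8.instDecCoxChk _) (by decide +kernel))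
theorem coxEltE8 : orderOf ((List.finRange 8).map rsE8.sw).prod = 30 :=
  rsE8.orderOf_eq_of _ _ (rsE8.smul_prod_sw _) _ (by decide) (by decide +kernel) (by decide +kernel)
def kuE8 : ℕ → ℕ → ℤ := fun i j => ((([] : List (List ℤ)).getD i []).getD j 0)
def kvE8 : ℕ → ℕ → ℤ := fun i j => ((([] : List (List ℤ)).getD i []).getD j 0)
theorem kerE8 : rsE8.KerData 0 1 (fun a i => kuE8 a i) (fun a i => kvE8 a i) :=
  rsE8.kerData_of _ _ _ _ (fun i j => ((([[4, 5, 7, 10, 8, 6, 4, 2], [5, 8, 10, 15, 12, 9, 6, 3], [7, 10, 14, 20, 16, 12, 8, 4], [10, 15, 20, 30, 24, 18, 12, 6], [8, 12, 16, 24, 20, 15, 10, 5], [6, 9, 12, 18, 15, 12, 8, 4], [4, 6, 8, 12, 10, 8, 6, 3], [2, 3, 4, 6, 5, 4, 3, 2]] : List (List ℤ)).getD i []).getD j 0))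
    (fun i j => ((([] : List (List ℤ)).getD i []).getD j 0)) (by decide +kernel)
theorem psE8_0 (q : ℕ) : rsE8.Ps [0, 1, 2, 3, 4, 5, 6, 7] q = horner q [1, 1, 1, 1, 1, 1, 2, 2, 2, 2, 3, 3, 4, 4, 4, 4, 5, 5, 6, 6, 6, 6, 7, 7, 7, 7, 7, 7, 8, 8, 7, 7, 7, 7, 7, 7, 6, 6, 6, 6, 5, 5, 4, 4, 4, 4, 3, 3, 2, 2, 2, 2, 1, 1, 1, 1, 1, 1] * rsE8.Ps [0, 1, 2, 3, 4, 5, 6] q :=
  rsE8.Ps_step (x0 := 239) (e := fld 0x10203040506070708090a0b0c0d08090a0b0c0d0e0b0c0d0e0f0d0e0f100f10111112130e0f10111011121213141112131314151415161712131414151615161718161718191a1718191a1b1c1d131415151617161718191718191a1b18191a1b1c1d18191a1b1c1d191a1b1c1d1a1b1c1d1b1c1d1c1d1d1e1e1f1e1f201e1f20211e1f2021221e1f202122231e1f202122232021222324222324252425262627281e1f20212223242122232425232425262526272728292425262726272828292a272829292a2b2a2b2c2d28292a2a2b2c2b2c2d2e2c2d2e2f302d2e2f303132332e2f30313233343435363738393a 8 255)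 (by decide +kernel) q
theorem psE8_1 (q : ℕ) : rsE8.Ps [0, 1, 2, 3, 4, 5, 6] q = horner q [1, 1, 1, 1, 1, 2, 2, 2, 2, 3, 3, 3, 3, 3, 3, 3, 3, 3, 3, 2, 2, 2, 2, 1, 1, 1, 1, 1] * rsE8.Ps [0, 1, 2, 3, 4, 5] q :=
  rsE8.Ps_step (x0 := 119) (e := fld 0x10002000003000000040000000005000000000006000000000006000000000700000008000009000a0b0000000000000700000000080000000900000a000b0c0000000a00000b000c0d00000c000d0e000e0f1000000d000e0f000f1011001011121300111213141516001213141516171718191a1b1c00 8 255) (by decide +kernel) q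
theorem psE8_2 (q : ℕ) : rsE8.Ps [0, 1, 2, 3, 4, 5] q = horner q [1, 1, 1, 1, 2, 2, 2, 2, 3, 2, 2, 2, 2, 1, 1, 1, 1] * rsE8.Ps [1, 2, 3, 4, 5] q :=
  rsE8.Ps_step (x0 := 78) (e := fld 0x1000000000000000000000000000000000000000000020000000000000000000300000000000400000506000000000005000006070000070809000008090a0b0c0000090a0b0c0d0d0e0f10110000 8 255) (by decide +kernel) q
theorem psE8_3 (q : ℕ) : rsE8.Ps [1, 2, 3, 4, 5] q = horner q [1, 1, 1, 1, 2, 1, 1, 1, 1] * rsE8.Ps [1, 2, 3, 4] q :=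
  rsE8.Ps_step (x0 := 11) (e := fld 0x10203040505060708090000 8 255) (by decide +kernel) q
theorem psE8_4 (q : ℕ) : rsE8.Ps [1, 2, 3, 4] q = horner q [1, 1, 1, 2, 1, 1, 1] * rsE8.Ps [1, 2, 3] q :=
  rsE8.Ps_step (x0 := 10) (e := fld 0x102030404050607000000 8 255) (by decide +kernel) q
theorem psE8_5 (q : ℕ) : rsE8.Ps [1, 2, 3] q = horner q [1, 1, 1, 1] * rsE8.Ps [1, 3] q :=
  rsE8.Ps_step (x0 := 21) (e := fld 0x1000000000203040000000000000000000000000000 8 255) (by decide +kernel) q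
theorem psE8_6 (q : ℕ) : rsE8.Ps [1, 3] q = horner q [1, 1, 1] * rsE8.Ps [3] q :=
  rsE8.Ps_step (x0 := 7) (e := fld 0x100020300000000 8 255) (by decide +kernel) q
theorem psE8_7 (q : ℕ) : rsE8.Ps [3] q = horner q [1, 1] * rsE8.Ps [] q :=
  rsE8.Ps_step (x0 := 5) (e := fld 0x10200000000 8 255) (by decide +kernel) q
theorem cardWE8 : Nat.card rsE8.W = 696729600 := by
  rw [RS.card_W, show List.range chevE8.rank = [0, 1, 2, 3, 4, 5, 6, 7] from rfl, psE8_0, psE8_1, psE8_2, psE8_3, psE8_4, psE8_5, psE8_6, psE8_7, RS.Ps_nil]; decide +kernel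
theorem poinE8 {q : ℕ} (hq : 1 ≤ q) : (q - 1) ^ 8 * ∑ w, q ^ rsE8.ex.len w = (q ^ 2 - 1) * (q ^ 8 - 1) * (q ^ 12 - 1) * (q ^ 14 - 1) * (q ^ 18 - 1) * (q ^ 20 - 1) * (q ^ 24 - 1) * (q ^ 30 - 1) := by
  rw [← RS.Ps_range, show List.range chevE8.rank = [0, 1, 2, 3, 4, 5, 6, 7] from rfl, psE8_0, psE8_1, psE8_2, psE8_3, psE8_4, psE8_5, psE8_6, psE8_7, RS.Ps_nil]
  apply Nat.cast_injective (R := ℤ)
  simp only [horner]
  push_cast [Nat.cast_sub hq, Nat.cast_sub (Nat.one_le_pow _ _ hq)]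
  ring

theorem exists_rs' {D : ChevalleyDatum} (hD : D ∈ [chevG2, chevB2, chevD4, chevF4, chevE6, chevE7, chevE8]) :
    ∃ R : RS D, R.Good ∧ R.Full ∧ 2 ≤ D.rank := by
  simp only [List.mem_cons, List.not_mem_nil, or_false] at hD
  rcases hD with rfl | rfl | rfl | rfl | rfl | rfl | rfl
  exacts [⟨rsG2, goodG2, fullG2, by decide⟩, ⟨rsB2, goodB2, fullB2, by decide⟩, ⟨rsD4, goodD4, fullD4, by decide⟩,
    ⟨rsF4, goodF4, fullF4, by decide⟩, ⟨rsE6, goodE6, fullE6, by decide⟩, ⟨rsE7, goodE7, fullE7, by decide⟩,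
    ⟨rsE8, goodE8, fullE8, by decide⟩]

end Cfsg.Agent.H5
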